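import Mathlib

/-!
# Sylow subgroups of prime order: centralizer and normalizer by arithmetic
-/

set_option autoImplicit false
set_option linter.style.haveILetI false

namespace Cfsg.Lib.J4Eleven

variable {Γ : Type*} [Group Γ] [Finite Γ] {p : ℕ} [hp : Fact p.Prime]

/-- A Sylow subgroup whose square does not divide the order has prime order. -/
theorem card_sylow_prime (h1 : p ∣ Nat.card Γ) (h2 : ¬ p ^ 2 ∣ Nat.card Γ) (U : Sylow p Γ) :
    Nat.card ↥(U : Subgroup Γ) = p := by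
  obtain ⟨k, hk⟩ := IsPGroup.iff_card.1 U.isPGroup'
  have hd : p ^ k ∣ Nat.card Γ := hk ▸ Subgroup.card_subgroup_dvd_card _
  have hge : p ^ 1 ∣ Nat.card ↥(U : Subgroup Γ) :=
    U.pow_dvd_card_of_pow_dvd_card (by rwa [pow_one])
  rw [hk] at hge ⊢
  have hk1 : 1 ≤ k := (Nat.pow_dvd_pow_iff_le_right hp.out.one_lt).1 hge
  have hk2 : k < 2 := by
    by_contra h
    exact h2 ((pow_dvd_pow p (Nat.le_of_not_lt h)).trans hd)
  rw [show k = 1 by omega, pow_one]

/-- All elements of prime order are conjugates of powers of one of them. -/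
theorem exists_conj_pow (h2 : ¬ p ^ 2 ∣ Nat.card Γ) {x y : Γ} (hx : orderOf x = p)
    (hy : orderOf y = p) : ∃ (g : Γ) (k : ℕ), ¬ p ∣ k ∧ y = g * x ^ k * g⁻¹ := by
  have h1 : p ∣ Nat.card Γ := hx ▸ orderOf_dvd_natCard x
  have hex : ∀ a : Γ, orderOf a = p → ∃ U : Sylow p Γ, (U : Subgroup Γ) = Subgroup.zpowers a := by
    intro a ha
    obtain ⟨U, hU⟩ := (IsPGroup.of_card (n := 1) (p := p) (G := ↥(Subgroup.zpowers a))
      (by rw [Nat.card_zpowers, ha, pow_one])).exists_le_sylow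
    refine ⟨U, (Subgroup.eq_of_le_of_card_ge hU ?_).symm⟩
    rw [card_sylow_prime h1 h2, Nat.card_zpowers, ha]
  obtain ⟨U, hU⟩ := hex x hx
  obtain ⟨V, hV⟩ := hex y hy
  obtain ⟨g, hg⟩ := MulAction.exists_smul_eq Γ U V
  have hy' : y ∈ (g • U : Sylow p Γ).toSubgroup := by
    rw [hg]; exact hV ▸ Subgroup.mem_zpowers y
  rw [Sylow.coe_subgroup_smul, Subgroup.mem_pointwise_smul_iff_inv_smul_mem, hU] at hy'
  obtain ⟨k, hk⟩ := (isOfFinOrder_of_finite x).mem_powers_iff_mem_zpowers.2 hy'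
  simp only [MulAut.smul_def, ← map_inv, MulAut.conj_apply, inv_inv] at hk
  refine ⟨g, k, fun hd => ?_, by rw [hk]; group⟩
  have h1' : x ^ k = 1 := orderOf_dvd_iff_pow_eq_one.1 (hx ▸ hd)
  rw [h1'] at hk
  have : y = 1 := by
    have := congrArg (fun z => g * z * g⁻¹) hk
    simpa [mul_assoc] using this.symm
  rw [this, orderOf_one] at hy
  exact hp.out.one_lt.ne hy

/-- The centralizer and the normalizer of a Sylow subgroup of prime order, by arithmetic. -/
theorem sylow_prime {N B m e0 : ℕ} (Bad : ℕ → ℕ → Prop) (hN : Nat.card Γ = N) (h1 : p ∣ N) (h2 : ¬ p ^ 2 ∣ N)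
    (hB : ∀ q : ℕ, q.Prime → q ∣ N → q ≠ p → (¬ q ∣ B) →
      ∀ x y : Γ, orderOf x = p → orderOf y = q → ¬ Commute x y)
    (hdec : ∀ c : ℕ, c ∣ N → (∀ q : ℕ, q.Prime → q ∣ c → q ∣ B ∧ q ≠ p) → ∀ e : ℕ,
      e ∣ p - 1 → m ∣ e → p * c * e ∣ N → N / (p * c * e) % p = 1 → (c = 1 ∧ e = e0) ∨ Bad c e)
    (hbad : ∀ c e, Bad c e → ∀ U : Sylow p Γ,
      Nat.card ↥(Subgroup.centralizer ((U : Subgroup Γ) : Set Γ)) = p * c →
      Nat.card ↥(Subgroup.normalizer ((U : Subgroup Γ) : Set Γ)) = p * c * e → False)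
    (hm : ∀ x : Γ, orderOf x = p → ∃ (n : Γ) (r : ℕ), n * x * n⁻¹ = x ^ r ∧
      ∀ j : ℕ, r ^ j % p = 1 → m ∣ j)
    (U : Sylow p Γ) :
    Subgroup.centralizer ((U : Subgroup Γ) : Set Γ) = (U : Subgroup Γ) ∧
      Nat.card ↥(Subgroup.normalizer ((U : Subgroup Γ) : Set Γ)) = p * e0 := by
  have hU : Nat.card ↥(U : Subgroup Γ) = p := card_sylow_prime (hN ▸ h1) (hN ▸ h2) U
  set H : Subgroup Γ := (U : Subgroup Γ)
  haveI hcyc : IsCyclic ↥H := isCyclic_of_prime_card hU
  set C := Subgroup.centralizer (H : Set Γ)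
  obtain ⟨x, hxH⟩ := IsCyclic.exists_generator (α := ↥H)
  have hxo : orderOf (x : Γ) = p := by
    rw [Subgroup.orderOf_coe, orderOf_eq_card_of_forall_mem_zpowers hxH, hU]
  have hle : H ≤ C := fun a ha b hb => by
    haveI : IsMulCommutative ↥H := IsCyclic.isMulCommutative
    exact congrArg Subtype.val (mul_comm' (⟨b, hb⟩ : ↥H) ⟨a, ha⟩)
  obtain ⟨c, hc⟩ := Subgroup.card_dvd_of_le hle
  rw [hU] at hc
  have hcN : c ∣ N := (Dvd.intro_left p hc.symm).trans (hN ▸ Subgroup.card_subgroup_dvd_card C)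
  have hqc : ∀ q : ℕ, q.Prime → q ∣ c → q ∣ B ∧ q ≠ p := by
    intro q hq hqc
    haveI : Fact q.Prime := ⟨hq⟩
    have hqp : q ≠ p := by
      rintro rfl
      refine h2 ((pow_two q ▸ mul_dvd_mul_left q hqc).trans ?_)
      rw [← hc, ← hN]
      exact Subgroup.card_subgroup_dvd_card C
    obtain ⟨y, hy⟩ := exists_prime_orderOf_dvd_card' q (G := ↥C) (hc ▸ hqc.mul_left p)
    refine ⟨?_, hqp⟩
    by_contra hqB
    refine hB q hq (hqc.trans hcN) hqp hqB x y hxo (by rwa [Subgroup.orderOf_coe]) ?_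
    exact y.2 x x.2
  set Nm := Subgroup.normalizer (H : Set Γ)
  let φ : ↥Nm →* MulAut ↥H := H.normalizerMonoidHom
  have hker : φ.ker = C.subgroupOf Nm := H.normalizerMonoidHom_ker
  have hCN : C ≤ Nm := fun a ha => by
    rw [Subgroup.mem_normalizer_iff]
    intro b
    constructor
    · intro hb
      rwa [← ha b hb, mul_inv_cancel_right]
    · intro hb
      have := ha _ hb
      have e : b = a * b * a⁻¹ := by
        have h' := congrArg (fun z => a⁻¹ * z) this
        simpa [mul_assoc] using h'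
      rwa [e]
  have hcard : Nat.card ↥Nm = p * c * Nat.card φ.range := by
    rw [← hc, ← Nat.card_congr (Subgroup.subgroupOfEquivOfLe hCN).toEquiv, ← hker,
      ← Subgroup.index_ker, mul_comm, φ.ker.index_mul_card]
  set e := Nat.card φ.range
  have he : e ∣ p - 1 := by
    have := Subgroup.card_subgroup_dvd_card φ.range
    rwa [IsCyclic.card_mulAut, hU, Nat.totient_prime hp.out] at this
  obtain ⟨n, r, hn, hr⟩ := hm x hxo
  have hnN : n ∈ Nm := by
    have hz : H = Subgroup.zpowers (x : Γ) := by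
      refine le_antisymm (fun a ha => ?_) (Subgroup.zpowers_le.2 x.2)
      obtain ⟨k, hk⟩ := hxH ⟨a, ha⟩
      exact ⟨k, congrArg Subtype.val hk⟩
    rw [show Nm = Subgroup.normalizer (H : Set Γ) from rfl, Subgroup.mem_normalizer_iff]
    have hmap : H.map (MulAut.conj n).toMonoidHom = H := by
      refine Subgroup.eq_of_le_of_card_ge ?_ ?_
      · conv_lhs => rw [hz]
        rw [MonoidHom.map_zpowers, Subgroup.zpowers_le]
        simp only [MulEquiv.coe_toMonoidHom, MulAut.conj_apply, hn]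
        exact pow_mem x.2 r
      · rw [Subgroup.card_map_of_injective (MulAut.conj n).injective]
    intro b
    conv_rhs => rw [← hmap]
    simp [Subgroup.mem_map]
  have hme : m ∣ e := by
    have hact : ∀ j : ℕ, ((φ ⟨n, hnN⟩ ^ j) x : Γ) = (x : Γ) ^ r ^ j := by
      intro j
      induction j with
      | zero => simp
      | succ j ih =>
        rw [pow_succ', MulAut.mul_apply]
        show n * ((φ ⟨n, hnN⟩ ^ j) x : Γ) * n⁻¹ = _
        rw [ih, ← conj_pow, hn, ← pow_mul, ← pow_succ']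
    refine dvd_trans (hr (orderOf (φ ⟨n, hnN⟩)) ?_) ?_
    · have h' := hact (orderOf (φ ⟨n, hnN⟩))
      rw [pow_orderOf_eq_one, MulAut.one_apply] at h'
      have h'' : (x : Γ) ^ r ^ orderOf (φ ⟨n, hnN⟩) = (x : Γ) ^ 1 := by rw [pow_one]; exact h'.symm
      rw [pow_eq_pow_iff_modEq, hxo] at h''
      rw [h'', Nat.mod_eq_of_lt hp.out.one_lt]
    · have h := orderOf_dvd_natCard (⟨φ ⟨n, hnN⟩, ⟨_, rfl⟩⟩ : φ.range)
      rwa [← Subgroup.orderOf_coe] at h
  have hdiv : p * c * e ∣ N := hN ▸ hcard ▸ Subgroup.card_subgroup_dvd_card Nm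
  have hmod : N / (p * c * e) % p = 1 := by
    have h' := card_sylow_modEq_one p Γ
    rw [Sylow.card_eq_index_normalizer U] at h'
    have hi : (Subgroup.normalizer (H : Set Γ)).index = N / (p * c * e) := by
      rw [← hcard, ← hN, ← Subgroup.index_mul_card Nm, Nat.mul_div_cancel _ Nat.card_pos]
    change (Subgroup.normalizer (H : Set Γ)).index ≡ 1 [MOD p] at h'
    rw [hi] at h'
    rw [h', Nat.mod_eq_of_lt hp.out.one_lt]
  obtain ⟨hc1, he0⟩ := (hdec c hcN hqc e he hme hdiv hmod).resolve_right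
    fun hb => hbad c e hb U hc hcard
  subst hc1
  refine ⟨(Subgroup.eq_of_le_of_card_ge hle ?_).symm, ?_⟩
  · rw [hc, mul_one, hU]
  · rw [hcard, he0, mul_one]

end Cfsg.Lib.J4Eleven
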