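import Cfsg.Agent.Lib.J4Eleven.Fix
import Cfsg.Agent.Lib.J4Eleven.DataFix
import Cfsg.Agent.Lib.J4PGL.Data

/-!
# Kernel checks on the elements of large prime order
-/

set_option autoImplicit false
set_option maxRecDepth 20000

namespace Cfsg.Lib.J4Eleven

open Cfsg.Lib.J4Real Cfsg.Lib.CosetEnum

theorem check23 : fixCheck word23 fixSet23 fixInv23 = true := by decide +kernel

theorem check29 : fixCheck word29 fixSet29 fixInv29 = true := by decide +kernel

theorem check31 : fixCheck word31 fixSet31 fixInv31 = true := by decide +kernel

theorem check37 : fixCheck word37 fixSet37 fixInv37 = true := by decide +kernel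

theorem check43 : fixCheck word43 fixSet43 fixInv43 = true := by decide +kernel

theorem sizes_ok : fixSet23.length = 4 ∧ fixSet29.length = 1 ∧ fixSet31.length = 4 ∧
    fixSet37.length = 16 ∧ fixSet43.length = 1 := by decide +kernel

theorem pow29 : sameW (List.replicate 29 word29).flatten [] = true := by decide +kernel

theorem pow31 : sameW (List.replicate 31 word31).flatten [] = true := by decide +kernel

theorem pow37 : sameW (List.replicate 37 word37).flatten [] = true := by decide +kernel

theorem pow43 : sameW (List.replicate 43 word43).flatten [] = true := by decide +kernel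

theorem word23_eq : word23 = J4PGL.aWord := by decide +kernel

theorem invert31 : sameW ([0] ++ word31 ++ [0]) (List.replicate 30 word31).flatten = true := by
  decide +kernel

theorem invol_zero : sameW [0, 0] [] = true := by decide +kernel

end Cfsg.Lib.J4Eleven
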