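import Cfsg.Agent.Lib.J4Eleven.Fix
import Cfsg.Agent.Lib.J4Eleven.Checks
import Cfsg.Agent.Lib.J4PGL.Model
import Cfsg.Agent.Lib.JankoFourSylow.Local

/-!
# The Sylow subgroups of order 23, 29, 31, 37 and 43
-/

set_option autoImplicit false
set_option maxRecDepth 20000
set_option linter.style.haveILetI false

namespace Cfsg.Lib.J4Eleven

open Cfsg.Lib.J4Real Cfsg.Lib.CosetEnum

/-- The order of the model. -/
abbrev jOrd : ℕ := 86775571046077562880

theorem pow23 : sameW (List.replicate 23 word23).flatten [] = true := by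
  rw [word23_eq]; exact J4PGL.a_pow_ok

/-- A word of the model with a checked fixed space and a checked power is an element of prime order. -/
theorem exists_elem {w S K : List ℕ} {p n : ℕ} [hp : Fact p.Prime]
    (h : fixCheck w S K = true) (hS : S.length = n) (hn : n < 2 ^ 112)
    (hpow : sameW (List.replicate p w).flatten [] = true) :
    ∃ x : Gsub, orderOf x = p ∧ x.1 = wp w ∧ (fixedSet x.1).ncard = n := by
  have hw : ∀ g ∈ w, g < 20 := by
    have h' := h
    simp only [fixCheck, inRange, Bool.and_eq_true, List.all_eq_true, Nat.blt_eq] at h'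
    exact h'.1.1.1.1.1
  have hc : (fixedSet (wp w)).ncard = n := (fixCheck_spec h).trans hS
  refine ⟨⟨wp w, wp_mem_G hw⟩, orderOf_eq_prime (Subtype.ext ?_) fun e => ?_, rfl, hc⟩
  · rw [Subgroup.coe_pow, Subgroup.coe_one]
    have h' := sameW_wp hpow
    rwa [wp_replicate, wp_nil] at h'
  · have e' : wp w = 1 := congrArg Subtype.val e
    rw [e', show fixedSet 1 = Set.univ from Set.eq_univ_of_forall fun _ => rfl, Set.ncard_univ] at hc
    have hv : Nat.card Vec = 2 ^ 112 :=
      (Nat.card_congr Fin.equivSubtype.symm).trans (Nat.card_fin _)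
    omega

/-- The number of fixed vectors of an element of one of the five prime orders. -/
def fixNum (p : ℕ) : ℕ := if p = 37 then 16 else if p = 23 ∨ p = 31 then 4 else 1

theorem fixed_count {p : ℕ} (hp : p = 23 ∨ p = 29 ∨ p = 31 ∨ p = 37 ∨ p = 43) {x : Gsub}
    (hx : orderOf x = p) : (fixedSet x.1).ncard = fixNum p := by
  obtain ⟨s23, s29, s31, s37, s43⟩ := sizes_ok
  have key : ∀ {w S K : List ℕ}, fixCheck w S K = true → S.length = fixNum p →
      sameW (List.replicate p w).flatten [] = true → p.Prime → ¬ p ^ 2 ∣ jOrd →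
      (fixedSet x.1).ncard = fixNum p := by
    intro w S K h hS hpow hpr h2
    haveI : Fact p.Prime := ⟨hpr⟩
    have hlt : fixNum p < 2 ^ 112 := by unfold fixNum; split_ifs <;> norm_num
    obtain ⟨y, hy, -, hc⟩ := exists_elem h hS hlt hpow
    rw [ncard_fixed_eq (by rw [card_Gsub]; exact h2) hy hx, hc]
  rcases hp with rfl | rfl | rfl | rfl | rfl
  · exact key check23 (by rw [s23]; rfl) pow23 (by norm_num) (by norm_num)
  · exact key check29 (by rw [s29]; rfl) pow29 (by norm_num) (by norm_num)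
  · exact key check31 (by rw [s31]; rfl) pow31 (by norm_num) (by norm_num)
  · exact key check37 (by rw [s37]; rfl) pow37 (by norm_num) (by norm_num)
  · exact key check43 (by rw [s43]; rfl) pow43 (by norm_num) (by norm_num)

theorem no_commute_large {p q : ℕ} (hp : p = 23 ∨ p = 29 ∨ p = 31 ∨ p = 37 ∨ p = 43)
    (hq : q = 23 ∨ q = 29 ∨ q = 31 ∨ q = 37 ∨ q = 43) (hne : fixNum p ≠ fixNum q) {x y : Gsub}
    (hx : orderOf x = p) (hy : orderOf y = q) : ¬ Commute x y := by
  intro hc
  have hpp : p.Prime := by rcases hp with rfl | rfl | rfl | rfl | rfl <;> norm_num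
  have hqp : q.Prime := by rcases hq with rfl | rfl | rfl | rfl | rfl <;> norm_num
  have hlt : ∀ r : ℕ, fixNum r < 23 := fun r => by unfold fixNum; split_ifs <;> norm_num
  have hp23 : 23 ≤ p := by omega
  have hq23 : 23 ≤ q := by omega
  refine not_commute_of_fixed (x := x.1) (y := y.1) hpp hqp (by rw [Subgroup.orderOf_coe, hx])
    (by rw [Subgroup.orderOf_coe, hy]) ?_ ?_ ?_ (hc.map Gsub.subtype)
  · rw [fixed_count hq hy]; exact (hlt q).trans_le hp23
  · rw [fixed_count hp hx]; exact (hlt p).trans_le hq23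
  · rw [fixed_count hp hx, fixed_count hq hy]; exact hne

theorem prime_cases {q : ℕ} (hq : q.Prime) (h : q ∣ jOrd) : q = 2 ∨ q = 3 ∨ q = 5 ∨ q = 7 ∨
    q = 11 ∨ q = 23 ∨ q = 29 ∨ q = 31 ∨ q = 37 ∨ q = 43 := by
  have h' : q ∣ 2 ^ 21 * 3 ^ 3 * 5 * 7 * 11 ^ 3 * 23 * 29 * 31 * 37 * 43 := h.trans (by norm_num)
  have e : ∀ {r : ℕ}, r.Prime → q ∣ r → q = r := fun hr hd => (Nat.prime_dvd_prime_iff_eq hq hr).1 hd
  simp only [Nat.Prime.dvd_mul hq] at h'
  rcases h' with ((((((((h' | h') | h') | h') | h') | h') | h') | h') | h') | h'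
  · simp [e Nat.prime_two (hq.dvd_of_dvd_pow h')]
  · simp [e Nat.prime_three (hq.dvd_of_dvd_pow h')]
  · simp [e (by norm_num) h']
  · simp [e (by norm_num) h']
  · simp [e (by norm_num) (hq.dvd_of_dvd_pow h')]
  · simp [e (by norm_num) h']
  · simp [e (by norm_num) h']
  · simp [e (by norm_num) h']
  · simp [e (by norm_num) h']
  · simp [e (by norm_num) h']

theorem order_mult {p m r : ℕ} (hm : 0 < m) (h1 : r ^ m % p = 1)
    (h : ∀ j < m, r ^ j % p = 1 → j = 0) (j : ℕ) (hj : r ^ j % p = 1) : m ∣ j := by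
  refine Nat.dvd_of_mod_eq_zero (h _ (Nat.mod_lt _ hm) ?_)
  have e : r ^ j = (r ^ m) ^ (j / m) * r ^ (j % m) := by rw [← pow_mul, ← pow_add, Nat.div_add_mod]
  rw [e, Nat.mul_mod, Nat.pow_mod, h1, one_pow] at hj
  rcases Nat.lt_or_ge 1 p with hp | hp
  · rwa [Nat.mod_eq_of_lt hp, one_mul, Nat.mod_mod] at hj
  · interval_cases p <;> simp_all [Nat.mod_one]

/-- The transported hypothesis: no element of order 2, 3, 5 or 7 commutes with one of large prime order. -/
def SmallFree : Prop := ∀ (p : ℕ) (x y : Gsub), p.Prime → 23 ≤ p → orderOf x = p →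
  (orderOf y = 2 ∨ orderOf y = 3 ∨ orderOf y = 5 ∨ orderOf y = 7) → ¬ Commute x y

/-- The conclusion for one prime. -/
def SylowShape (p e : ℕ) : Prop := ∀ U : Sylow p Gsub,
  Subgroup.centralizer ((U : Subgroup Gsub) : Set Gsub) = (U : Subgroup Gsub) ∧
    Nat.card ↥(Subgroup.normalizer ((U : Subgroup Gsub) : Set Gsub)) = p * e

theorem centralizer_map_equiv {G G' : Type*} [Group G] [Group G'] (f : G ≃* G') (V : Subgroup G) :
    Subgroup.centralizer ((V.map f.toMonoidHom : Subgroup G') : Set G') =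
      (Subgroup.centralizer (V : Set G)).map f.toMonoidHom := by
  refine le_antisymm ?_ ?_
  · intro w hw
    refine ⟨f.symm w, fun v hv => ?_, f.apply_symm_apply w⟩
    apply f.injective
    simpa using hw (f v) ⟨v, hv, rfl⟩
  · rintro _ ⟨c, hc, rfl⟩ _ ⟨v, hv, rfl⟩
    rw [← map_mul, ← map_mul, hc v hv]

variable (hS : SmallFree)

include hS in
theorem shape_of_list {p e0 m B : ℕ} (hp : p = 23 ∨ p = 29 ∨ p = 31 ∨ p = 37 ∨ p = 43)
    (Bad : ℕ → ℕ → Prop) [DecidableRel Bad]
    (cs : List ℕ)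
    (hm : ∀ x : Gsub, orderOf x = p → ∃ (n : Gsub) (r : ℕ), n * x * n⁻¹ = x ^ r ∧
      ∀ j : ℕ, r ^ j % p = 1 → m ∣ j)
    (hex : ∀ q, (q = 23 ∨ q = 29 ∨ q = 31 ∨ q = 37 ∨ q = 43) → q ≠ p → ¬ q ∣ B →
      ∀ x y : Gsub, orderOf x = p → orderOf y = q → ¬ Commute x y)
    (h11 : 11 ∣ B)
    (hsplit : ∃ M D, jOrd = D * M ∧ (∀ q, q.Prime → q ∣ B → q ≠ p → ¬ q ∣ M) ∧
      ∀ c, c ∣ D → c ∈ cs)
    (hdec : cs.all (fun c => (List.range p).all fun e => decide (e ∣ p - 1 → m ∣ e →
      p * c * e ∣ jOrd → jOrd / (p * c * e) % p = 1 → (c = 1 ∧ e = e0) ∨ Bad c e)) = true)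
    (hbad : ∀ c e, Bad c e → ∀ U : Sylow p Gsub,
      Nat.card ↥(Subgroup.centralizer ((U : Subgroup Gsub) : Set Gsub)) = p * c →
      Nat.card ↥(Subgroup.normalizer ((U : Subgroup Gsub) : Set Gsub)) = p * c * e → False) :
    SylowShape p e0 := by
  have hpp : p.Prime := by rcases hp with rfl | rfl | rfl | rfl | rfl <;> norm_num
  haveI : Fact p.Prime := ⟨hpp⟩
  obtain ⟨M, D, hMD, hM, hD⟩ := hsplit
  intro U
  refine sylow_prime (N := jOrd) (B := B) (m := m) (e0 := e0) Bad card_Gsub ?_ ?_ ?_ ?_ hbad hm U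
  · rcases hp with rfl | rfl | rfl | rfl | rfl <;> norm_num
  · rcases hp with rfl | rfl | rfl | rfl | rfl <;> norm_num
  · intro q hq hqN hqp hqB x y hx hy
    have hp23 : 23 ≤ p := by omega
    rcases prime_cases hq hqN with h | h | h | h | h | h
    · exact hS p x y hpp hp23 hx (by omega)
    · exact hS p x y hpp hp23 hx (by omega)
    · exact hS p x y hpp hp23 hx (by omega)
    · exact hS p x y hpp hp23 hx (by omega)
    · exact absurd (h ▸ h11) hqB
    · exact hex q h hqp hqB x y hx hy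
  · intro c hc hcq e he hme hd hmod
    have hcD : c ∣ D := by
      refine Nat.Coprime.dvd_of_dvd_mul_right ?_ (hMD ▸ hc)
      refine Nat.coprime_of_dvd fun q hq hqc hqM => ?_
      obtain ⟨hqB, hqp⟩ := hcq q hq hqc
      exact hM q hq hqB hqp hqM
    have h := List.all_eq_true.1 hdec c (hD c hcD)
    have he' : e < p := (Nat.le_of_dvd (by have := hpp.two_le; omega) he).trans_lt
      (by have := hpp.two_le; omega)
    exact of_decide_eq_true (List.all_eq_true.1 h e (List.mem_range.2 he')) he hme hd hmod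

theorem trivial_mult (p : ℕ) : ∀ x : Gsub, orderOf x = p →
    ∃ (n : Gsub) (r : ℕ), n * x * n⁻¹ = x ^ r ∧ ∀ j : ℕ, r ^ j % p = 1 → 1 ∣ j :=
  fun x _ => ⟨1, 1, by simp, fun j _ => one_dvd j⟩

theorem mult_transport {p m r : ℕ} [hp : Fact p.Prime] (h2 : ¬ p ^ 2 ∣ jOrd) {x₀ n : Gsub}
    (hx₀ : orderOf x₀ = p) (hn : n * x₀ * n⁻¹ = x₀ ^ r) (hr : ∀ j : ℕ, r ^ j % p = 1 → m ∣ j) :
    ∀ x : Gsub, orderOf x = p →
      ∃ (n' : Gsub) (r' : ℕ), n' * x * n'⁻¹ = x ^ r' ∧ ∀ j : ℕ, r' ^ j % p = 1 → m ∣ j := by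
  intro x hx
  obtain ⟨g, k, -, rfl⟩ := exists_conj_pow (by rw [card_Gsub]; exact h2) hx₀ hx
  refine ⟨g * n * g⁻¹, r, ?_, hr⟩
  calc g * n * g⁻¹ * (g * x₀ ^ k * g⁻¹) * (g * n * g⁻¹)⁻¹
      = g * (n * x₀ ^ k * n⁻¹) * g⁻¹ := by group
    _ = g * (x₀ ^ k) ^ r * g⁻¹ := by rw [← conj_pow, hn, ← pow_mul, ← pow_mul, mul_comm]
    _ = (g * x₀ ^ k * g⁻¹) ^ r := (conj_pow).symm

theorem dvd_eleven {c : ℕ} (h : c ∣ 1331) : c ∈ [1, 11, 121, 1331] := by
  obtain ⟨a, ha, rfl⟩ := (Nat.dvd_prime_pow (show Nat.Prime 11 by norm_num)).1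
    (show c ∣ 11 ^ 3 by norm_num; exact h)
  interval_cases a <;> simp

theorem dvd_eleven_thirtyone {c : ℕ} (h : c ∣ 1331 * 31) :
    c ∈ [1, 11, 121, 1331, 31, 341, 3751, 41261] := by
  obtain ⟨y, z, hy, hz, rfl⟩ := Nat.dvd_mul.1 h
  have hy' := dvd_eleven hy
  have hz' := (Nat.dvd_prime (show Nat.Prime 31 by norm_num)).1 hz
  simp only [List.mem_cons, List.not_mem_nil, or_false] at hy' ⊢
  rcases hy' with rfl | rfl | rfl | rfl <;> rcases hz' with rfl | rfl <;> simp

theorem not_dvd_of_prime {q a : ℕ} (hq : q.Prime) (ha : a.Prime) (hne : q ≠ a) : ¬ q ∣ a :=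
  fun h => hne ((Nat.prime_dvd_prime_iff_eq hq ha).1 h)

include hS in
theorem shape37 : SylowShape 37 12 := by
  refine shape_of_list hS (B := 11) (m := 1) (by norm_num) (fun _ _ => False) [1, 11, 121, 1331] (trivial_mult 37)
    (fun q hq hne _ x y hx hy => no_commute_large (by norm_num) hq
      (by rcases hq with rfl | rfl | rfl | rfl | rfl <;> simp_all [fixNum]) hx hy)
    (by norm_num) ⟨jOrd / 1331, 1331, by norm_num, ?_, fun c => dvd_eleven⟩ (by decide +kernel)
    (fun _ _ h _ _ _ => h)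
  intro q hq hqB _
  rw [(Nat.prime_dvd_prime_iff_eq hq (by norm_num)).1 hqB]
  norm_num

/-- The centralizer of one Sylow subgroup of prime order having that order, no element of a
second prime order commutes with an element of the first. -/
theorem no_commute_of_shape {p e q : ℕ} [hp : Fact p.Prime] (h : SylowShape p e)
    (h2 : ¬ p ^ 2 ∣ jOrd) (hqp : q ≠ p) (hq1 : q.Prime) {x y : Gsub} (hx : orderOf x = p)
    (hy : orderOf y = q) : ¬ Commute x y := by
  intro hc
  obtain ⟨U, hU⟩ := (IsPGroup.of_card (n := 1) (p := p) (G := ↥(Subgroup.zpowers x))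
    (by rw [Nat.card_zpowers, hx, pow_one])).exists_le_sylow
  have hUx : Subgroup.zpowers x = (U : Subgroup Gsub) := by
    refine Subgroup.eq_of_le_of_card_ge hU ?_
    rw [card_sylow_prime (hx ▸ orderOf_dvd_natCard x) (by rw [card_Gsub]; exact h2),
      Nat.card_zpowers, hx]
  have hmem : y ∈ Subgroup.centralizer ((U : Subgroup Gsub) : Set Gsub) := by
    rw [← hUx]
    rintro _ ⟨k, rfl⟩
    exact (hc.zpow_left k).eq
  rw [(h U).1, ← hUx] at hmem
  have := Subgroup.orderOf_dvd_natCard _ hmem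
  rw [Nat.card_zpowers, hy, hx] at this
  exact hqp ((Nat.prime_dvd_prime_iff_eq hq1 hp.out).1 this)

include hS in
/-- The centralizer of order `43 * 29` cannot occur: an element of order three of the normalizer
would commute with an element of order 29. -/
theorem bad43 (U : Sylow 43 Gsub)
    (hC : Nat.card ↥(Subgroup.centralizer ((U : Subgroup Gsub) : Set Gsub)) = 43 * 29)
    (hN : Nat.card ↥(Subgroup.normalizer ((U : Subgroup Gsub) : Set Gsub)) = 43 * 29 * 42) :
    False := by
  classical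
  haveI : Fact (Nat.Prime 43) := ⟨by norm_num⟩
  haveI : Fact (Nat.Prime 29) := ⟨by norm_num⟩
  haveI : Fact (Nat.Prime 3) := ⟨by norm_num⟩
  set H : Subgroup Gsub := (U : Subgroup Gsub)
  set C := Subgroup.centralizer (H : Set Gsub) with hCdef
  haveI : Fintype ↥C := Fintype.ofFinite _
  have hU : Nat.card ↥H = 43 := card_sylow_prime (by rw [card_Gsub]; norm_num)
    (by rw [card_Gsub]; norm_num) U
  obtain ⟨a, ha⟩ := exists_prime_orderOf_dvd_card' (G := ↥H) 43 (by rw [hU])
  obtain ⟨b, hb⟩ := exists_prime_orderOf_dvd_card' (G := ↥C) 29 (by rw [hC]; norm_num)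
  haveI : IsMulCommutative ↥H := by
    haveI := isCyclic_of_prime_card hU; exact IsCyclic.isMulCommutative
  have haC : (a : Gsub) ∈ C := fun w hw => congrArg Subtype.val (mul_comm' (⟨w, hw⟩ : ↥H) a)
  have hcm : Commute (⟨a, haC⟩ : ↥C) b := Subtype.ext (b.2 a a.2)
  have hao : orderOf (⟨a, haC⟩ : ↥C) = 43 := by
    rw [Subgroup.orderOf_mk, Subgroup.orderOf_coe, ha]
  have hab : orderOf ((⟨a, haC⟩ : ↥C) * b) = Nat.card ↥C := by
    rw [hcm.orderOf_mul_eq_mul_orderOf_of_coprime (by rw [hao, hb]; norm_num), hao, hb, hC]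
  haveI : IsCyclic ↥C := isCyclic_of_orderOf_eq_card _ hab
  obtain ⟨y, hy⟩ := exists_prime_orderOf_dvd_card'
    (G := ↥(Subgroup.normalizer (H : Set Gsub))) 3 (by rw [hN]; norm_num)
  have hconj : ∀ w ∈ C, (y : Gsub) * w * (y : Gsub)⁻¹ ∈ C := by
    intro w hw u hu
    have h1 := hw ((y : Gsub)⁻¹ * u * (y : Gsub))
      (by simpa using (Subgroup.mem_normalizer_iff.1 (inv_mem y.2) u).1 hu)
    calc u * ((y : Gsub) * w * (y : Gsub)⁻¹)
        = (y : Gsub) * ((y : Gsub)⁻¹ * u * (y : Gsub) * w) * (y : Gsub)⁻¹ := by group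
      _ = (y : Gsub) * (w * ((y : Gsub)⁻¹ * u * (y : Gsub))) * (y : Gsub)⁻¹ := by rw [h1]
      _ = (y : Gsub) * w * (y : Gsub)⁻¹ * u := by group
  let f : {w : ↥C // orderOf w = 29} → {w : ↥C // orderOf w = 29} := fun w =>
    ⟨⟨(y : Gsub) * w.1 * (y : Gsub)⁻¹, hconj _ w.1.2⟩, by
      rw [Subgroup.orderOf_mk]
      have := (MulAut.conj (y : Gsub)).orderOf_eq (w.1 : Gsub)
      rw [MulAut.conj_apply, Subgroup.orderOf_coe, w.2] at this
      exact this⟩
  have hy3 : (y : Gsub) ^ 3 = 1 := by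
    have := pow_orderOf_eq_one y
    rw [hy] at this
    exact congrArg Subtype.val this
  have hf3 : ∀ w, f (f (f w)) = w := by
    intro w
    refine Subtype.ext (Subtype.ext ?_)
    show (y : Gsub) * ((y : Gsub) * ((y : Gsub) * w.1 * (y : Gsub)⁻¹) * (y : Gsub)⁻¹) * (y : Gsub)⁻¹
      = (w.1 : Gsub)
    calc _ = (y : Gsub) ^ 3 * w.1 * ((y : Gsub) ^ 3)⁻¹ := by
          simp only [pow_succ, pow_zero, one_mul, mul_inv_rev, mul_assoc]
      _ = _ := by rw [hy3, one_mul, inv_one, mul_one]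
  let σ : Equiv.Perm {w : ↥C // orderOf w = 29} :=
    ⟨f, fun w => f (f w), fun w => hf3 w, fun w => hf3 w⟩
  have hσ : σ ^ 3 ^ 1 = 1 := Equiv.ext fun w => hf3 w
  have hcard : Fintype.card {w : ↥C // orderOf w = 29} = 28 := by
    rw [Fintype.card_subtype, IsCyclic.card_orderOf_eq_totient
      (by rw [← Nat.card_eq_fintype_card, hC]; norm_num), Nat.totient_prime (by norm_num)]
  obtain ⟨w, hw⟩ := Equiv.Perm.exists_fixed_point_of_prime (p := 3) (n := 1)
    (by rw [hcard]; norm_num) hσ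
  have hw' : (y : Gsub) * w.1 * (y : Gsub)⁻¹ = (w.1 : Gsub) :=
    congrArg (fun t : {w : ↥C // orderOf w = 29} => ((t.1 : Gsub))) hw
  refine hS 29 (w.1 : Gsub) (y : Gsub) (by norm_num) (by norm_num)
    (by rw [Subgroup.orderOf_coe, w.2]) (Or.inr (Or.inl (by rw [Subgroup.orderOf_coe, hy]))) ?_
  exact (mul_inv_eq_iff_eq_mul.1 hw').symm

include hS in
theorem shape43 : SylowShape 43 14 := by
  refine shape_of_list hS (B := 11 * 29) (m := 1) (by norm_num) (fun c e => c = 29 ∧ e = 42) [1, 11, 121, 1331, 29, 319, 3509, 38599]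
    (trivial_mult 43)
    (fun q hq hne hqB x y hx hy => ?_)
    (by norm_num) ⟨jOrd / (1331 * 29), 1331 * 29, by norm_num, ?_, fun c hc => ?_⟩ (by decide +kernel)
    (fun c e h U hC hN => bad43 hS U (by rw [hC, h.1]) (by rw [hN, h.1, h.2]))
  · rcases hq with rfl | rfl | rfl | rfl | rfl
    · exact no_commute_large (by norm_num) (by norm_num) (by decide) hx hy
    · norm_num at hqB
    · exact no_commute_large (by norm_num) (by norm_num) (by decide) hx hy
    · exact no_commute_large (by norm_num) (by norm_num) (by decide) hx hy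
    · exact absurd rfl hne
  · intro q hq hqB _
    rcases (Nat.Prime.dvd_mul hq).1 hqB with h | h <;>
      rw [(Nat.prime_dvd_prime_iff_eq hq (by norm_num)).1 h] <;> norm_num
  · obtain ⟨y, z, hy, hz, rfl⟩ := Nat.dvd_mul.1 hc
    have hy' := dvd_eleven hy
    have hz' := (Nat.dvd_prime (show Nat.Prime 29 by norm_num)).1 hz
    simp only [List.mem_cons, List.not_mem_nil, or_false] at hy' ⊢
    rcases hy' with rfl | rfl | rfl | rfl <;> rcases hz' with rfl | rfl <;> simp


include hS in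
theorem shape29 : SylowShape 29 28 := by
  refine shape_of_list hS (B := 11) (m := 1) (by norm_num) (fun _ _ => False) [1, 11, 121, 1331] (trivial_mult 29)
    (fun q hq hne _ x y hx hy => ?_)
    (by norm_num) ⟨jOrd / 1331, 1331, by norm_num, ?_, fun c => dvd_eleven⟩ (by decide +kernel)
    (fun _ _ h _ _ _ => h)
  · rcases hq with rfl | rfl | rfl | rfl | rfl
    · exact no_commute_large (by norm_num) (by norm_num) (by decide) hx hy
    · exact absurd rfl hne
    · exact no_commute_large (by norm_num) (by norm_num) (by decide) hx hy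
    · exact no_commute_large (by norm_num) (by norm_num) (by decide) hx hy
    · haveI : Fact (Nat.Prime 43) := ⟨by norm_num⟩
      exact fun hc => no_commute_of_shape (shape43 hS) (by norm_num) (by norm_num) (by norm_num)
        hy hx hc.symm
  · intro q hq hqB _
    rw [(Nat.prime_dvd_prime_iff_eq hq (by norm_num)).1 hqB]
    norm_num

theorem mult23 : ∀ x : Gsub, orderOf x = 23 →
    ∃ (n : Gsub) (r : ℕ), n * x * n⁻¹ = x ^ r ∧ ∀ j : ℕ, r ^ j % 23 = 1 → 22 ∣ j := by
  haveI : Fact (Nat.Prime 23) := ⟨by norm_num⟩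
  refine mult_transport (x₀ := J4PGL.modelRels.A) (n := J4PGL.modelRels.E) (r := 5) (by norm_num)
    (orderOf_eq_prime J4PGL.modelRels.hA J4PGL.modelRels.hA1) ?_
    (order_mult (by norm_num) (by norm_num) (by decide))
  rw [J4PGL.modelRels.hEA, mul_inv_cancel_right]

theorem mult31 : ∀ x : Gsub, orderOf x = 31 →
    ∃ (n : Gsub) (r : ℕ), n * x * n⁻¹ = x ^ r ∧ ∀ j : ℕ, r ^ j % 31 = 1 → 2 ∣ j := by
  haveI : Fact (Nat.Prime 31) := ⟨by norm_num⟩
  obtain ⟨x, hx, hxe, -⟩ := exists_elem (p := 31) (n := 4) check31 sizes_ok.2.2.1 (by norm_num) pow31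
  have h0 : jp 0 ∈ Gsub := jp_mem_G (by norm_num)
  refine mult_transport (x₀ := x) (n := ⟨jp 0, h0⟩) (r := 30) (by norm_num) hx (Subtype.ext ?_)
    (order_mult (by norm_num) (by norm_num) (by decide))
  have hinv : (jp 0)⁻¹ = jp 0 := by
    have h := sameW_wp invol_zero
    rw [wp_cons, wp_single, wp_nil] at h
    exact inv_eq_of_mul_eq_one_right h
  have h := sameW_wp invert31
  rw [wp_append, wp_append, wp_single, wp_replicate] at h
  simp only [Subgroup.coe_mul, Subgroup.coe_inv, Subgroup.coe_pow, hxe, hinv]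
  exact h

include hS in
theorem shape23 : SylowShape 23 22 := by
  refine shape_of_list hS (B := 11 * 31) (m := 22) (by norm_num) (fun _ _ => False)
    [1, 11, 121, 1331, 31, 341, 3751, 41261] mult23
    (fun q hq hne hqB x y hx hy => ?_)
    (by norm_num) ⟨jOrd / (1331 * 31), 1331 * 31, by norm_num, ?_, fun c => dvd_eleven_thirtyone⟩
    (by decide +kernel)
    (fun _ _ h _ _ _ => h)
  · rcases hq with rfl | rfl | rfl | rfl | rfl
    · exact absurd rfl hne
    · exact no_commute_large (by norm_num) (by norm_num) (by decide) hx hy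
    · norm_num at hqB
    · exact no_commute_large (by norm_num) (by norm_num) (by decide) hx hy
    · exact no_commute_large (by norm_num) (by norm_num) (by decide) hx hy
  · intro q hq hqB _
    rcases (Nat.Prime.dvd_mul hq).1 hqB with h | h <;>
      rw [(Nat.prime_dvd_prime_iff_eq hq (by norm_num)).1 h] <;> norm_num

include hS in
theorem shape31 : SylowShape 31 10 := by
  refine shape_of_list hS (B := 11) (m := 2) (by norm_num) (fun _ _ => False) [1, 11, 121, 1331] mult31
    (fun q hq hne _ x y hx hy => ?_)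
    (by norm_num) ⟨jOrd / 1331, 1331, by norm_num, ?_, fun c => dvd_eleven⟩ (by decide +kernel)
    (fun _ _ h _ _ _ => h)
  · rcases hq with rfl | rfl | rfl | rfl | rfl
    · haveI : Fact (Nat.Prime 23) := ⟨by norm_num⟩
      exact fun hc => no_commute_of_shape (shape23 hS) (by norm_num) (by norm_num) (by norm_num)
        hy hx hc.symm
    · exact no_commute_large (by norm_num) (by norm_num) (by decide) hx hy
    · exact absurd rfl hne
    · exact no_commute_large (by norm_num) (by norm_num) (by decide) hx hy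
    · exact no_commute_large (by norm_num) (by norm_num) (by decide) hx hy
  · intro q hq hqB _
    rw [(Nat.prime_dvd_prime_iff_eq hq (by norm_num)).1 hqB]
    norm_num

omit hS in
/-- The hypothesis holds for a simple group of Janko-four type isomorphic to the model. -/
theorem smallFree_of_type {G : Type*} [Group G] [Finite G] [IsSimpleGroup G]
    (hG : ¬ IsMulCommutative G) (hJ : Cfsg.IsOfJankoFourType G) (φ : G ≃* Gsub) : SmallFree := by
  intro p x y hp h23 hx hy hc
  refine Lib.JankoFour.no_commute_small hG hJ (x := φ.symm x) (y := φ.symm y) hp h23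
    (by rw [φ.symm.orderOf_eq, hx]) ?_ (hc.map φ.symm.toMonoidHom)
  rw [φ.symm.orderOf_eq]
  exact hy

omit hS in
/-- The five normalizers in a simple group of Janko-four type isomorphic to the model. -/
theorem shape_transport {G : Type*} [Group G] [Finite G] {p e : ℕ} [Fact p.Prime]
    (φ : G ≃* Gsub) (h : SylowShape p e) (U : Sylow p G) :
    Subgroup.centralizer ((U : Subgroup G) : Set G) = (U : Subgroup G) ∧
      Nat.card ↥(Subgroup.normalizer ((U : Subgroup G) : Set G)) = p * e := by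
  obtain ⟨h1, h2⟩ := h (U.comapOfInjective φ.symm.toMonoidHom φ.symm.injective
    (fun x _ => ⟨φ x, φ.symm_apply_apply x⟩))
  set V : Subgroup Gsub := (U : Subgroup G).comap φ.symm.toMonoidHom
  have hU : (U : Subgroup G) = V.map φ.symm.toMonoidHom :=
    (Subgroup.map_comap_eq_self_of_surjective φ.symm.surjective _).symm
  have e1 : Subgroup.centralizer ((U : Subgroup G) : Set G) =
      (Subgroup.centralizer (V : Set Gsub)).map φ.symm.toMonoidHom := by
    rw [hU]; exact centralizer_map_equiv φ.symm V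
  change Subgroup.centralizer (V : Set Gsub) = V at h1
  change Nat.card ↥(Subgroup.normalizer (V : Set Gsub)) = p * e at h2
  refine ⟨by rw [e1, h1, ← hU], ?_⟩
  rw [hU, ← Subgroup.map_equiv_normalizer_eq, Subgroup.card_map_of_injective φ.symm.injective, h2]

end Cfsg.Lib.J4Eleven
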