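import Cfsg.Agent.Lib.J4Eleven.Norm
import Cfsg.Agent.Lib.J4Eleven.Large
import Cfsg.Agent.Lib.JankoFourSylow.Eleven

/-!
# The Sylow 11-subgroups and the classes of elements of order 11
-/

set_option autoImplicit false
set_option linter.style.haveILetI false

namespace Cfsg.Lib.J4Eleven

open Cfsg.Lib.J4Real

variable {G : Type*} [Group G] [Finite G] [IsSimpleGroup G] (hG : ¬ IsMulCommutative G)
  (hJ : Cfsg.IsOfJankoFourType G) (φ : G ≃* Gsub)

include hG hJ φ in
/-- No centralizer of an element of prime order other than 11 has order divisible by `11 ^ 3`. -/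
theorem cube_not_dvd {y : Gsub} (hr : (orderOf y).Prime) (h11 : orderOf y ≠ 11) :
    ¬ 11 ^ 3 ∣ Nat.card ↥(Subgroup.centralizer ({y} : Set Gsub)) := by
  intro hd
  have hS := smallFree_of_type hG hJ φ
  have hy' : orderOf (φ.symm y) = orderOf y := φ.symm.orderOf_eq y
  have small : orderOf y = 2 ∨ orderOf y = 3 ∨ orderOf y = 5 ∨ orderOf y = 7 → False := by
    intro h
    refine Lib.JankoFour.sq_eleven_not_dvd hG hJ (y := φ.symm y) (hy'.symm ▸ h) ?_
    refine (show 11 ^ 2 ∣ 11 ^ 3 by norm_num).trans (hd.trans (Dvd.intro 1 ?_))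
    rw [mul_one]
    have e := centralizer_map_equiv φ.symm (Subgroup.zpowers y)
    rw [MonoidHom.map_zpowers] at e
    simp only [Subgroup.zpowers_eq_closure, Subgroup.centralizer_closure] at e
    change _ = Nat.card ↥(Subgroup.centralizer ({φ.symm.toMonoidHom y} : Set G))
    rw [e, Subgroup.card_map_of_injective φ.symm.injective]
  have big : ∀ {p e : ℕ}, p.Prime → SylowShape p e → ¬ p ^ 2 ∣ jOrd → p ≠ 11 → orderOf y = p →
      False := by
    intro p e hp hsh h2 hp11 ho
    haveI : Fact p.Prime := ⟨hp⟩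
    haveI : Fact (Nat.Prime 11) := fact_prime_11
    obtain ⟨a, ha⟩ := exists_prime_orderOf_dvd_card' 11
      ((show 11 ∣ 11 ^ 3 by norm_num).trans hd)
    exact no_commute_of_shape hsh h2 hp11.symm (by norm_num) ho
      (by rw [Subgroup.orderOf_coe]; exact ha) (Subgroup.mem_centralizer_singleton_iff.1 a.2).symm
  rcases prime_cases hr ((orderOf_dvd_natCard y).trans (dvd_of_eq card_Gsub)) with
    h | h | h | h | h | h | h | h | h | h
  · exact small (Or.inl h)
  · exact small (Or.inr (Or.inl h))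
  · exact small (Or.inr (Or.inr (Or.inl h)))
  · exact small (Or.inr (Or.inr (Or.inr h)))
  · exact h11 h
  · exact big (by norm_num) (shape23 hS) (by norm_num) (by norm_num) h
  · exact big (by norm_num) (shape29 hS) (by norm_num) (by norm_num) h
  · exact big (by norm_num) (shape31 hS) (by norm_num) (by norm_num) h
  · exact big (by norm_num) (shape37 hS) (by norm_num) (by norm_num) h
  · exact big (by norm_num) (shape43 hS) (by norm_num) (by norm_num) h

include hG hJ φ in
/-- The structure of a Sylow 11-subgroup of `G` and of its normalizer. -/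
theorem sylow_eleven (U : Sylow 11 G) :
    Cfsg.IsExtraspecial 11 ↥(U : Subgroup G) ∧ Nat.card ↥(U : Subgroup G) = 11 ^ 3 ∧
    Monoid.exponent ↥(U : Subgroup G) = 11 ∧
    Nat.card ↥(Subgroup.normalizer ((U : Subgroup G) : Set G)) = 2 ^ 4 * 3 * 5 * 11 ^ 3 ∧
    ∃ K : Subgroup G, K ≤ Subgroup.normalizer ((U : Subgroup G) : Set G) ∧
      Nonempty (↥K ≃* GL (Fin 2) (ZMod 3)) := by
  haveI : Fact (Nat.Prime 11) := fact_prime_11
  set V := U0.map φ.symm.toMonoidHom with hV
  have hVc : Nat.card ↥V = 11 ^ 3 := by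
    rw [hV, Subgroup.card_map_of_injective φ.symm.injective, card_U0]
  obtain ⟨P, hP⟩ := (IsPGroup.of_card (n := 3) (p := 11) (G := ↥V) hVc).exists_le_sylow
  have hcardG : Nat.card G = jOrd := (Nat.card_congr φ.toEquiv).trans card_Gsub
  have hPV : V = (P : Subgroup G) := by
    refine Subgroup.eq_of_le_of_card_ge hP ?_
    obtain ⟨n, hn⟩ := IsPGroup.iff_card.1 P.isPGroup'
    rw [hn, hVc]
    refine Nat.pow_le_pow_right (by norm_num) ?_
    by_contra hlt
    have := (pow_dvd_pow 11 (Nat.not_le.1 hlt)).trans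
      (hn ▸ hcardG ▸ Subgroup.card_subgroup_dvd_card (P : Subgroup G))
    norm_num at this
  obtain ⟨g, hg⟩ := MulAction.exists_smul_eq G P U
  let θ : Gsub ≃* G := φ.symm.trans (MulAut.conj g)
  have hU : (U : Subgroup G) = U0.map θ.toMonoidHom := by
    rw [← hg, Sylow.coe_subgroup_smul, ← hPV, hV, Subgroup.pointwise_smul_def]
    exact Subgroup.map_map U0 _ _
  let eU : ↥U0 ≃* ↥(U : Subgroup G) :=
    (θ.subgroupMap U0).trans (MulEquiv.subgroupCongr hU.symm)
  obtain ⟨hex, hexp⟩ := uHeis.structure_sub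
  refine ⟨?_, ?_, ?_, ?_, ?_⟩
  · have hc : Nat.card ↥(U : Subgroup G) = 11 ^ 3 := by rw [← Nat.card_congr eU.toEquiv, card_U0]
    refine Lib.JankoFour.isExtraspecial_of_cube hc fun hcomm => uHeis.not_comm ?_
    exact ⟨⟨fun a b => eU.injective ((map_mul eU a b).trans ((hcomm.is_comm.comm _ _).trans (map_mul eU b a).symm))⟩⟩
  · rw [← Nat.card_congr eU.toEquiv, card_U0]
  · rw [← Monoid.exponent_eq_of_mulEquiv eU]; exact hexp
  · rw [hU, ← Subgroup.map_equiv_normalizer_eq, Subgroup.card_map_of_injective θ.injective,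
      card_normalizer fun y hr h11 => cube_not_dvd hG hJ φ hr h11]
    norm_num
  · obtain ⟨ψ, hψ, hle⟩ := exists_glHom
    refine ⟨ψ.range.map θ.toMonoidHom, ?_, ⟨((θ.subgroupMap _).symm.trans (MonoidHom.ofInjective hψ).symm)⟩⟩
    rw [hU, ← Subgroup.map_equiv_normalizer_eq]
    exact Subgroup.map_mono hle

omit [Finite G] [IsSimpleGroup G] in
include φ in
/-- `G` has exactly two classes of elements of order 11. -/
theorem eleven_classes : ∃ x y : G, orderOf x = 11 ∧ orderOf y = 11 ∧ ¬ IsConj x y ∧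
    ∀ w : G, orderOf w = 11 → IsConj w x ∨ IsConj w y := by
  obtain ⟨hA, hZ, hne, hall⟩ := two_classes
  refine ⟨φ.symm uHeis.A, φ.symm uHeis.Z, by rw [φ.symm.orderOf_eq, hA],
    by rw [φ.symm.orderOf_eq, hZ], fun h => hne ?_, fun w hw => ?_⟩
  · have := φ.toMonoidHom.map_isConj h
    simpa using this
  · rcases hall (φ w) (by rw [φ.orderOf_eq, hw]) with h | h
    · left
      have := φ.symm.toMonoidHom.map_isConj h
      simpa using this
    · right
      have := φ.symm.toMonoidHom.map_isConj h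
      simpa using this

end Cfsg.Lib.J4Eleven
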