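import Cfsg.Agent.Lib.J4Real.Order
import Cfsg.Agent.Lib.J4Eleven.Count

/-!
# Fixed vectors of elements of the 112-dimensional model, and what they say about centralizers
-/

set_option autoImplicit false
set_option linter.style.haveILetI false
set_option maxRecDepth 20000

namespace Cfsg.Lib.J4Eleven

open Cfsg.Lib.J4Real Cfsg.Lib.CosetEnum Cfsg.Lib.J4Pres

/-- The fixed vectors. -/
def fixedSet (g : Equiv.Perm Vec) : Set Vec := {v | g v = v}

theorem fixedSet_pow_sub (g : Equiv.Perm Vec) (k : ℕ) : fixedSet g ⊆ fixedSet (g ^ k) := by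
  intro v hv
  induction k with
  | zero => rfl
  | succ k ih =>
    show (g ^ (k + 1)) v = v
    rw [pow_succ, Equiv.Perm.mul_apply, show g v = v from hv]
    exact ih

theorem fixedSet_pow {g : Equiv.Perm Vec} {p k : ℕ} (hp : p.Prime) (ho : orderOf g = p)
    (hk : ¬ p ∣ k) : fixedSet (g ^ k) = fixedSet g := by
  refine Set.Subset.antisymm ?_ (fixedSet_pow_sub g k)
  obtain ⟨m, hm⟩ := exists_pow_eq_self_of_coprime (x := g) (n := k)
    (ho ▸ (hp.coprime_iff_not_dvd.2 hk).symm)
  conv_rhs => rw [← hm]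
  exact fixedSet_pow_sub _ m

theorem fixedSet_conj (g h : Equiv.Perm Vec) : fixedSet (h * g * h⁻¹) = h '' fixedSet g := by
  ext v
  constructor
  · intro hv
    refine ⟨h⁻¹ v, ?_, by simp⟩
    show g (h⁻¹ v) = h⁻¹ v
    have := congrArg (⇑h⁻¹) (show (h * g * h⁻¹) v = v from hv)
    simpa using this
  · rintro ⟨u, hu, rfl⟩
    show (h * g * h⁻¹) (h u) = h u
    simp [show g u = u from hu]

/-- A commuting element of larger prime order fixes the fixed vectors pointwise. -/
theorem fixed_sub_of_commute {x y : Equiv.Perm Vec} {p : ℕ} (hp : p.Prime) (hx : orderOf x = p)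
    (hc : Commute x y) (hlt : (fixedSet y).ncard < p) : fixedSet y ⊆ fixedSet x := by
  intro v hv
  by_contra hne
  have hmem : ∀ i : ℕ, (x ^ i) v ∈ fixedSet y := by
    intro i
    show y ((x ^ i) v) = (x ^ i) v
    rw [← Equiv.Perm.mul_apply, ← (hc.pow_left i).eq, Equiv.Perm.mul_apply, show y v = v from hv]
  have hinj : ∀ i < p, ∀ j < p, (x ^ i) v = (x ^ j) v → i ≤ j → i = j := by
    intro i hi j hj he hij
    by_contra hne'
    have hd : ¬ p ∣ (j - i) := fun hd =>
      absurd (Nat.le_of_dvd (by omega) hd) (by omega)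
    have hfix : v ∈ fixedSet (x ^ (j - i)) := by
      show (x ^ (j - i)) v = v
      apply (x ^ i).injective
      rw [← Equiv.Perm.mul_apply, ← pow_add, Nat.add_sub_cancel' hij]
      exact he.symm
    rw [fixedSet_pow hp hx hd] at hfix
    exact hne hfix
  let f : Fin p → ↥(fixedSet y) := fun i => ⟨(x ^ (i : ℕ)) v, hmem i⟩
  have hf : Function.Injective f := by
    intro i j e
    have e' : (x ^ (i : ℕ)) v = (x ^ (j : ℕ)) v := congrArg Subtype.val e
    rcases le_total (i : ℕ) (j : ℕ) with h | h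
    · exact Fin.ext (hinj i i.2 j j.2 e' h)
    · exact Fin.ext (hinj j j.2 i i.2 e'.symm h).symm
  have hfin : (fixedSet y).Finite := Set.toFinite _
  haveI := hfin.to_subtype
  have := Nat.card_le_card_of_injective f hf
  rw [Nat.card_fin, Nat.card_coe_set_eq] at this
  omega

theorem not_commute_of_fixed {x y : Equiv.Perm Vec} {p q : ℕ} (hp : p.Prime) (hq : q.Prime)
    (hx : orderOf x = p) (hy : orderOf y = q) (hyp : (fixedSet y).ncard < p)
    (hxq : (fixedSet x).ncard < q) (hne : (fixedSet x).ncard ≠ (fixedSet y).ncard) :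
    ¬ Commute x y := by
  intro hc
  exact hne (le_antisymm
    (Set.ncard_le_ncard (fixed_sub_of_commute hq hy hc.symm hxq) (Set.toFinite _))
    (Set.ncard_le_ncard (fixed_sub_of_commute hp hx hc hyp) (Set.toFinite _)))

/-- `1 + K (1 + w)` lands in the list on the unit vectors and the list is a fixed subspace. -/
noncomputable def fixCheck (w S K : List ℕ) : Bool :=
  inRange w && nodupN S && S.any (fun s => Nat.beq s 0) &&
    (S.all fun s => Nat.blt s (2 ^ 112) && Nat.beq (applyWord rows w s) s) &&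
    (S.all fun s => S.all fun t => S.any fun u => Nat.beq u (s ^^^ t)) &&
    (List.range 112).all fun i => force (2 ^ i) fun e => force (applyWord rows w e) fun u =>
      force (e ^^^ applyRows K (u ^^^ e)) fun r => S.any fun s => Nat.beq s r

theorem bits_mem {n : ℕ} {P : ℕ → Prop} {f : ℕ → ℕ} (hf : ∀ a b, f (a ^^^ b) = f a ^^^ f b)
    (h0 : P 0) (hP : ∀ a b, P a → P b → P (a ^^^ b)) (h : ∀ i < n, P (f (2 ^ i))) :
    ∀ v < 2 ^ n, P (f v) := by
  induction n with
  | zero =>
    intro v hv
    have e : v = 0 := by simpa using hv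
    subst e
    have h1 := hf 0 0
    rw [Nat.xor_self, Nat.xor_self] at h1
    rw [h1]; exact h0
  | succ n ih =>
    intro v hv
    have ih' := ih fun i hi => h i (Nat.lt_succ_of_lt hi)
    rcases Nat.lt_or_ge v (2 ^ n) with hlt | hge
    · exact ih' v hlt
    · have hrest : 2 ^ n ^^^ v < 2 ^ n := by
        refine Nat.lt_pow_two_of_testBit _ fun i hi => ?_
        rw [Nat.testBit_xor, Nat.testBit_two_pow]
        rcases Nat.eq_or_lt_of_le hi with rfl | hlt'
        · simp only [decide_true, Bool.true_xor, Bool.not_eq_false']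
          exact Nat.testBit_of_two_pow_le_and_two_pow_add_one_gt hge hv
        · rw [decide_eq_false (by omega), Bool.false_xor]
          exact Nat.testBit_lt_two_pow (hv.trans_le (Nat.pow_le_pow_right (by norm_num) (by omega)))
      have e : v = 2 ^ n ^^^ (2 ^ n ^^^ v) := by
        rw [← Nat.xor_assoc, Nat.xor_self, Nat.zero_xor]
      rw [e, hf]
      exact hP _ _ (h n (by omega)) (ih' _ hrest)

theorem fixCheck_spec {w S K : List ℕ} (h : fixCheck w S K = true) :
    (fixedSet (wp w)).ncard = S.length := by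
  classical
  simp only [fixCheck, inRange, force_eq, Bool.and_eq_true, List.all_eq_true, List.any_eq_true,
    Nat.blt_eq, Nat.beq_eq, List.mem_range] at h
  obtain ⟨⟨⟨⟨⟨hr, hn⟩, h0⟩, hS⟩, hx⟩, hK⟩ := h
  obtain ⟨z, hz, rfl⟩ := h0
  have hnd : S.Nodup := nodupN_spec hn
  have hmem : ∀ v : Vec, v ∈ fixedSet (wp w) ↔ v.1 ∈ S := by
    intro v
    show wp w v = v ↔ _
    rw [Subtype.ext_iff, wp_apply w hr v]
    refine ⟨fun hv => ?_, fun hv => (hS _ hv).2⟩
    let f : ℕ → ℕ := fun a => a ^^^ applyRows K (applyWord rows w a ^^^ a)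
    have hf : ∀ a b, f (a ^^^ b) = f a ^^^ f b := by
      intro a b
      simp only [f, applyWord_xor, applyRows_xor, Nat.xor_assoc, Nat.xor_comm, Nat.xor_left_comm]
    have hfv := bits_mem (P := fun u => u ∈ S) hf hz
      (fun a b ha hb => by obtain ⟨u, hu, rfl⟩ := hx a ha b hb; exact hu)
      (fun i hi => by obtain ⟨s, hs, e⟩ := hK i hi; show _ ^^^ _ ∈ S; exact e ▸ hs) v.1 v.2
    have hzero : applyRows K 0 = 0 := by
      have h' := applyRows_xor K 0 0
      rwa [Nat.xor_self, Nat.xor_self] at h'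
    have hfe : f v.1 = v.1 := by simp only [f, hv, Nat.xor_self, hzero, Nat.xor_zero]
    exact hfe ▸ hfv
  have him : (fun v : Vec => v.1) '' fixedSet (wp w) = (S.toFinset : Set ℕ) := by
    ext u
    simp only [Set.mem_image, List.coe_toFinset, Set.mem_ofPred_eq]
    constructor
    · rintro ⟨v, hv, rfl⟩; exact (hmem v).1 hv
    · intro hu; exact ⟨⟨u, (hS u hu).1⟩, (hmem _).2 hu, rfl⟩
  have := congrArg Set.ncard him
  rwa [Set.ncard_image_of_injective _ Subtype.val_injective, Set.ncard_coe_finset,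
    List.toFinset_card_of_nodup hnd] at this

/-- In a group of permutations of the vectors, all elements of a prime order fix equally many. -/
theorem ncard_fixed_eq {p : ℕ} [hp : Fact p.Prime] (h2 : ¬ p ^ 2 ∣ Nat.card Gsub)
    {x y : Gsub} (hx : orderOf x = p) (hy : orderOf y = p) :
    (fixedSet y.1).ncard = (fixedSet x.1).ncard := by
  obtain ⟨g, k, hk, rfl⟩ := exists_conj_pow h2 hx hy
  rw [Subgroup.coe_mul, Subgroup.coe_mul, Subgroup.coe_inv, Subgroup.coe_pow, fixedSet_conj,
    Set.ncard_image_of_injective _ g.1.injective,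
    fixedSet_pow hp.out (by rw [Subgroup.orderOf_coe]; exact hx) hk]

end Cfsg.Lib.J4Eleven
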