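/-! Generated data: the normaliser of a Sylow 11-subgroup. -/

set_option autoImplicit false
set_option maxRecDepth 20000

namespace Cfsg.Lib.J4Eleven

/-- Four elements normalising the Sylow 11-subgroup. -/
def normWords : List (List Nat) :=
  [[4, 7, 5, 3, 9, 1, 13, 2, 16, 1, 2, 9, 2, 1, 2, 6, 7, 8, 9, 10,
    15, 16, 3, 4, 3, 4, 3, 1, 3, 4, 3, 1, 0, 1, 0, 1, 0, 4, 0, 4,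
    0, 4, 0, 4, 0, 4, 0, 4, 0, 1, 0, 1, 0, 4, 0, 4, 0, 1, 0, 4,
    0, 4, 0, 4],
   [5, 7, 4, 15, 5, 13, 2, 4, 0, 9, 4, 2, 6, 2, 1, 2, 6, 7, 9, 10,
    13, 15, 4, 3, 1, 3, 4, 3, 1, 3, 1, 3, 1, 0, 1, 0, 4, 0, 4, 0,
    1, 0, 1, 0, 4, 0, 1, 0, 4, 0, 1, 0, 4, 0, 4, 0, 4, 0, 1, 0,
    4, 0, 4, 0, 4, 0],
   [11, 5, 1, 15, 6, 2, 0, 4, 16, 13, 2, 9, 4, 2, 7, 14, 15, 3, 1, 3,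
    4, 3, 4, 3, 1, 3, 1, 3, 1, 3, 4, 3, 1, 3, 1, 3, 4, 3, 4, 0,
    4, 0, 4, 0, 4, 0, 1, 0, 4, 0, 1, 0, 1, 0, 4, 0, 4, 0, 4, 0,
    4, 0, 1, 0, 1, 0, 4, 0, 4, 0, 1],
   [5, 4, 5, 11, 5, 1, 2, 16, 9, 2, 0, 4, 0, 4, 2, 7, 9, 11, 12, 14,
    16, 3, 1, 3, 4, 3, 1, 3, 1, 3, 1, 3, 4, 3, 4, 3, 4, 3, 4, 0,
    4, 0, 4, 0, 4, 0, 4, 0, 4, 0, 1, 0, 4, 0, 4, 0, 4, 0, 4, 0,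
    4, 0, 4, 0, 1, 0, 4, 0, 1, 0, 4]]

/-- Their actions on the three generators, as exponents. -/
def normConj : List (List (Nat × Nat × Nat)) :=
  [[(0, 1, 0), (1, 0, 0), (0, 0, 10)],
   [(2, 6, 1), (5, 10, 6), (0, 0, 1)],
   [(7, 4, 6), (4, 4, 5), (0, 0, 1)],
   [(3, 0, 0), (0, 3, 0), (0, 0, 9)]]

/-- The words of GL2(3), by the code of the matrix. -/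
def glWords : List (List Nat) :=
  [[],
   [],
   [],
   [],
   [],
   [],
   [],
   [],
   [],
   [],
   [],
   [],
   [4, 7, 5, 3, 9, 1, 13, 2, 16, 1, 2, 9, 2, 1, 2, 6, 7, 8, 9, 10,
    15, 16, 3, 4, 3, 4, 3, 1, 3, 4, 3, 1, 0, 1, 0, 1, 0, 4, 0, 4,
    0, 4, 0, 4, 0, 4, 0, 4, 0, 1, 0, 1, 0, 4, 0, 4, 0, 1, 0, 4,
    0, 4, 0, 4],
   [3, 1, 5, 3, 4, 2, 13, 6, 4, 2, 13, 9, 1, 2, 1, 2, 7, 9, 10, 11,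
    12, 15, 16, 4, 3, 4, 3, 4, 3, 1, 3, 1, 3, 4, 3, 1, 3, 1, 3, 1,
    0, 1, 0, 4, 0, 4, 0, 4, 0, 1, 0, 1, 0, 4, 0, 4, 0, 4, 0, 4,
    0, 4, 0, 4, 0, 1, 0, 1, 0, 4, 0, 1, 0],
   [1, 7, 15, 9, 2, 9, 6, 2, 0, 1, 13, 2, 1, 2, 6, 8, 10, 11, 13, 3,
    1, 3, 1, 3, 1, 3, 1, 3, 4, 3, 4, 3, 4, 3, 4, 3, 4, 0, 4, 0,
    1, 0, 4, 0, 1, 0, 1, 0, 1, 0, 4, 0, 1, 0, 4, 0, 4, 0, 4, 0,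
    1, 0, 1, 0, 1, 0, 1, 0, 1],
   [5, 3, 4, 7, 4, 9, 2, 1, 2, 4, 2, 4, 2, 1, 2, 8, 9, 10, 13, 15,
    16, 4, 3, 4, 3, 1, 3, 4, 3, 1, 3, 1, 3, 4, 3, 4, 3, 4, 0, 4,
    0, 1, 0, 1, 0, 1, 0, 4, 0, 4, 0, 4, 0, 1, 0, 4, 0, 4, 0, 1,
    0, 4, 0, 1, 0, 1, 0, 1, 0, 4],
   [5, 7, 4, 15, 5, 13, 2, 4, 0, 9, 4, 2, 6, 2, 1, 2, 6, 7, 9, 10,
    13, 15, 4, 3, 1, 3, 4, 3, 1, 3, 1, 3, 1, 0, 1, 0, 4, 0, 4, 0,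
    1, 0, 1, 0, 4, 0, 1, 0, 4, 0, 1, 0, 4, 0, 4, 0, 4, 0, 1, 0,
    4, 0, 4, 0, 4, 0],
   [5, 3, 15, 4, 7, 13, 6, 2, 13, 1, 2, 4, 2, 4, 2, 6, 7, 8, 9, 10,
    12, 3, 1, 3, 1, 3, 1, 3, 1, 3, 4, 3, 1, 3, 4, 0, 1, 0, 4, 0,
    1, 0, 1, 0, 1, 0, 4, 0, 4, 0, 4, 0, 4, 0, 1, 0, 1, 0, 1, 0,
    1, 0, 1, 0, 4, 0, 1],
   [],
   [],
   [],
   [5, 3, 4, 7, 4, 9, 2, 1, 2, 4, 2, 4, 2, 1, 2, 6, 7, 9, 12, 13,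
    15, 16, 3, 4, 3, 4, 3, 1, 3, 1, 3, 1, 3, 1, 3, 1, 3, 1, 3, 4,
    3, 4, 3, 1, 3, 1, 0, 1, 0, 4, 0, 4, 0, 4, 0, 1, 0, 1, 0, 1,
    0, 4, 0, 4, 0, 1, 0, 4, 0, 4, 0, 4, 0, 1, 0, 4, 0, 1],
   [5, 3, 15, 4, 7, 13, 6, 2, 13, 1, 2, 4, 2, 4, 2, 8, 10, 12, 13, 1,
    3, 4, 3, 4, 3, 4, 3, 1, 3, 4, 3, 1, 3, 1, 3, 1, 3, 1, 3, 1,
    3, 1, 3, 1, 0, 4, 0, 1, 0, 4, 0, 4, 0, 1, 0, 1, 0, 1, 0, 1,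
    0, 1, 0, 4, 0, 4, 0, 4, 0, 4, 0, 4, 0, 4, 0, 4],
   [5, 7, 4, 15, 5, 13, 2, 4, 0, 9, 4, 2, 6, 2, 1, 2, 7, 8, 10, 11,
    12, 14, 16, 4, 3, 4, 3, 1, 3, 1, 3, 1, 3, 1, 3, 1, 3, 4, 3, 4,
    3, 1, 3, 4, 0, 1, 0, 1, 0, 4, 0, 4, 0, 4, 0, 4, 0, 4, 0, 4,
    0, 4, 0, 1, 0, 4, 0, 4, 0, 1, 0, 1, 0, 1, 0, 4],
   [4, 7, 5, 3, 9, 1, 13, 2, 16, 1, 2, 9, 2, 1, 2, 8, 10, 13, 14, 15,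
    3, 1, 3, 4, 3, 4, 3, 1, 3, 1, 3, 1, 3, 1, 3, 4, 3, 1, 3, 1,
    0, 1, 0, 1, 0, 1, 0, 1, 0, 4, 0, 4, 0, 1, 0, 1, 0, 1, 0, 4,
    0, 4, 0, 1, 0, 4, 0, 1, 0, 1, 0, 1, 0],
   [1, 7, 15, 9, 2, 9, 6, 2, 0, 1, 13, 2, 1, 2, 6, 7, 8, 9, 10, 11,
    12, 13, 3, 1, 3, 4, 3, 1, 3, 1, 3, 1, 3, 1, 3, 4, 0, 1, 0, 1,
    0, 1, 0, 4, 0, 1, 0, 4, 0, 1, 0, 4, 0, 1, 0, 1, 0, 1, 0, 4,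
    0, 4, 0, 1, 0, 4, 0, 1, 0],
   [3, 1, 5, 3, 4, 2, 13, 6, 4, 2, 13, 9, 1, 2, 1, 2, 6, 7, 9, 12,
    13, 15, 16, 1, 3, 1, 3, 4, 3, 4, 3, 1, 3, 1, 3, 1, 3, 4, 3, 1,
    3, 4, 3, 1, 0, 1, 0, 4, 0, 4, 0, 1, 0, 4, 0, 1, 0, 4, 0, 4,
    0, 4, 0, 4, 0, 4, 0, 4, 0, 1, 0, 1, 0, 1, 0, 4],
   [],
   [],
   [1, 7, 5, 15, 2, 4, 13, 4, 2, 1, 2, 6, 1, 2, 6, 8, 9, 10, 11, 13,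
    15, 3, 1, 3, 4, 3, 4, 3, 4, 3, 1, 3, 1, 3, 1, 3, 1, 3, 4, 3,
    1, 3, 1, 0, 1, 0, 1, 0, 1, 0, 4, 0, 4, 0, 1, 0, 1, 0, 1, 0,
    1, 0, 1, 0, 1, 0, 1, 0, 1, 0, 4, 0, 1, 0, 1],
   [],
   [5, 3, 4, 5, 7, 16, 2, 9, 4, 2, 13, 6, 2, 1, 2, 8, 9, 13, 14, 15,
    16, 4, 3, 1, 3, 4, 3, 1, 3, 4, 3, 4, 3, 4, 3, 4, 3, 1, 0, 1,
    0, 1, 0, 4, 0, 4, 0, 1, 0, 4, 0, 4, 0, 1, 0, 4, 0, 1, 0, 1,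
    0, 4, 0, 1, 0, 4, 0, 1, 0, 1, 0],
   [1, 5, 1, 2, 9, 1, 9, 2, 0, 1, 2, 1, 2, 6, 7, 10, 12, 14, 15, 16,
    1, 3, 1, 3, 1, 3, 1, 3, 1, 3, 4, 3, 1, 0, 1, 0, 4, 0, 4, 0,
    4, 0, 4, 0, 4, 0, 4, 0, 1, 0, 4, 0, 4, 0, 4, 0, 1, 0, 1, 0,
    1, 0, 4, 0, 4, 0],
   [],
   [5, 3, 4, 3, 7, 6, 1, 0, 1, 2, 4, 2, 4, 2, 1, 2, 6, 7, 9, 10,
    11, 14, 15, 16, 1, 3, 4, 3, 1, 3, 4, 3, 4, 3, 1, 3, 4, 3, 1, 3,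
    1, 3, 1, 3, 1, 3, 1, 0, 4, 0, 4, 0, 1, 0, 1, 0, 1, 0, 1, 0,
    1, 0, 1, 0, 1, 0, 4, 0, 4, 0, 4, 0, 4, 0, 4, 0, 4, 0, 1],
   [11, 5, 4, 5, 13, 6, 2, 1, 9, 1, 2, 1, 0, 1, 2, 6, 8, 9, 13, 14,
    16, 1, 3, 4, 3, 1, 3, 4, 3, 1, 3, 1, 3, 1, 3, 4, 3, 1, 3, 4,
    3, 1, 3, 4, 3, 4, 3, 4, 0, 4, 0, 1, 0, 1, 0, 4, 0, 1, 0, 4,
    0, 4, 0, 1, 0, 1, 0, 4, 0, 4, 0, 4, 0, 1, 0, 1, 0, 4, 0, 4],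
   [],
   [15, 4, 15, 5, 15, 4, 0, 1, 2, 4, 2, 16, 1, 2, 1, 2, 6, 11, 12, 13,
    15, 1, 3, 4, 3, 1, 3, 4, 3, 1, 3, 1, 3, 1, 3, 1, 0, 4, 0, 4,
    0, 1, 0, 1, 0, 1, 0, 1, 0, 4, 0, 1, 0, 1, 0, 4, 0, 4, 0, 4,
    0, 1, 0, 4, 0, 1, 0, 1],
   [1, 11, 15, 5, 1, 2, 16, 9, 2, 13, 9, 6, 1, 2, 1, 2, 6, 9, 10, 13,
    16, 3, 4, 3, 4, 3, 4, 3, 4, 3, 1, 3, 1, 3, 4, 3, 1, 3, 1, 3,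
    1, 3, 1, 0, 4, 0, 4, 0, 4, 0, 1, 0, 1, 0, 1, 0, 4, 0, 1, 0,
    1, 0, 4, 0, 4, 0, 4, 0, 1, 0, 1, 0, 4, 0, 1, 0],
   [15, 1, 15, 5, 1, 9, 1, 2, 16, 1, 0, 13, 2, 1, 2, 7, 8, 10, 13, 15,
    1, 3, 4, 3, 4, 3, 4, 3, 4, 3, 1, 3, 4, 3, 4, 3, 4, 3, 1, 0,
    1, 0, 1, 0, 4, 0, 1, 0, 1, 0, 1, 0, 1, 0, 1, 0, 1, 0, 1, 0,
    1, 0, 4, 0, 4, 0, 4, 0, 1, 0, 4],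
   [],
   [11, 5, 4, 5, 7, 1, 0, 13, 6, 1, 2, 4, 0, 4, 2, 6, 8, 9, 10, 13,
    14, 16, 4, 3, 4, 3, 1, 3, 4, 3, 4, 3, 4, 3, 1, 3, 4, 3, 4, 3,
    4, 3, 4, 0, 1, 0, 1, 0, 1, 0, 4, 0, 4, 0, 4, 0, 4, 0, 1, 0,
    1, 0, 4, 0, 4, 0, 1, 0, 1, 0, 4, 0, 1, 0, 1],
   [5, 1, 5, 3, 4, 11, 2, 9, 2, 13, 2, 13, 0, 1, 2, 1, 2, 6, 9, 10,
    12, 13, 3, 1, 3, 1, 3, 1, 3, 4, 3, 4, 3, 1, 3, 4, 3, 1, 0, 1,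
    0, 1, 0, 1, 0, 4, 0, 4, 0, 1, 0, 1, 0, 1, 0, 1, 0, 1, 0, 1,
    0, 1, 0, 1, 0, 4, 0, 4, 0, 1],
   [7, 3, 15, 4, 2, 16, 9, 4, 2, 9, 4, 2, 4, 2, 9, 12, 13, 14, 15, 16,
    4, 3, 1, 3, 1, 3, 1, 3, 4, 3, 1, 3, 4, 3, 1, 3, 4, 3, 1, 3,
    1, 0, 1, 0, 4, 0, 1, 0, 4, 0, 4, 0, 1, 0, 1, 0, 4, 0, 4, 0,
    4, 0, 4, 0, 4, 0, 1, 0, 4, 0, 1, 0, 4],
   [],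
   [],
   [5, 1, 11, 15, 5, 16, 1, 2, 13, 0, 4, 2, 4, 2, 1, 2, 6, 7, 9, 12,
    13, 15, 16, 4, 3, 4, 3, 4, 3, 1, 3, 4, 3, 4, 3, 1, 0, 4, 0, 1,
    0, 4, 0, 1, 0, 4, 0, 4, 0, 4, 0, 4, 0, 4, 0, 4, 0, 4, 0, 4,
    0, 1, 0, 4, 0, 1, 0, 4, 0],
   [5, 4, 7, 5, 4, 11, 16, 13, 2, 4, 16, 2, 6, 0, 4, 2, 6, 8, 9, 10,
    12, 13, 16, 1, 3, 4, 3, 1, 3, 1, 3, 1, 3, 4, 3, 1, 3, 4, 3, 1,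
    3, 4, 3, 1, 0, 4, 0, 1, 0, 1, 0, 1, 0, 1, 0, 1, 0, 4, 0, 4,
    0, 4, 0, 1, 0, 4, 0, 4, 0, 4, 0, 4, 0, 4, 0, 4],
   [15, 5, 7, 5, 1, 2, 16, 0, 4, 2, 16, 13, 1, 2, 1, 2, 8, 10, 12, 13,
    15, 4, 3, 1, 3, 4, 3, 4, 3, 1, 3, 4, 3, 1, 3, 1, 3, 1, 3, 4,
    3, 1, 3, 1, 3, 4, 0, 4, 0, 1, 0, 4, 0, 1, 0, 1, 0, 1, 0, 1,
    0, 1, 0, 1, 0, 4, 0, 4, 0, 4, 0, 1, 0, 4, 0, 4, 0, 1],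
   [7, 3, 1, 5, 1, 0, 9, 6, 2, 1, 16, 2, 1, 2, 7, 12, 13, 15, 16, 4,
    3, 4, 3, 4, 3, 4, 3, 1, 3, 1, 3, 1, 3, 4, 0, 4, 0, 4, 0, 1,
    0, 4, 0, 1, 0, 4, 0, 4, 0, 4, 0, 4, 0, 1, 0, 1, 0, 4, 0, 4,
    0, 1, 0, 4, 0, 4, 0],
   [],
   [5, 3, 4, 5, 13, 2, 9, 2, 13, 1, 16, 2, 0, 1, 2, 6, 10, 11, 13, 14,
    4, 3, 1, 3, 1, 3, 4, 3, 4, 3, 4, 3, 1, 3, 1, 3, 4, 3, 1, 3,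
    4, 0, 1, 0, 1, 0, 1, 0, 4, 0, 1, 0, 4, 0, 1, 0, 1, 0, 1, 0,
    4, 0, 4, 0, 4, 0, 1, 0, 1, 0, 4, 0, 4, 0],
   [],
   [11, 5, 1, 15, 6, 2, 0, 4, 16, 13, 2, 9, 4, 2, 7, 14, 15, 3, 1, 3,
    4, 3, 4, 3, 1, 3, 1, 3, 1, 3, 4, 3, 1, 3, 1, 3, 4, 3, 4, 0,
    4, 0, 4, 0, 4, 0, 1, 0, 4, 0, 1, 0, 1, 0, 4, 0, 4, 0, 4, 0,
    4, 0, 1, 0, 1, 0, 4, 0, 4, 0, 1],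
   [],
   [1, 7, 5, 15, 2, 4, 13, 4, 2, 1, 2, 6, 1, 2, 8, 11, 3, 1, 3, 1,
    3, 4, 3, 4, 3, 4, 3, 4, 3, 4, 3, 1, 3, 1, 3, 4, 0, 1, 0, 4,
    0, 1, 0, 4, 0, 4, 0, 1, 0, 1, 0, 4, 0, 4, 0, 1, 0, 1, 0, 1,
    0, 1, 0, 1, 0, 4, 0, 4],
   [6, 7, 13, 14, 15, 3, 4, 3, 1, 3, 1, 3, 4, 3, 1, 3, 1, 3, 1, 3,
    1, 3, 4, 3, 1, 3, 4, 3, 1, 3, 1, 3, 1, 0, 4, 0, 4, 0, 4, 0,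
    1, 0, 1, 0, 1, 0, 4, 0, 4, 0, 4, 0, 4, 0, 1, 0, 4, 0, 1, 0,
    4, 0, 1, 0, 1],
   [],
   [11, 5, 4, 5, 13, 6, 2, 1, 9, 1, 2, 1, 0, 1, 2, 6, 12, 4, 3, 4,
    3, 1, 3, 1, 3, 4, 3, 4, 3, 4, 3, 1, 3, 1, 3, 1, 0, 4, 0, 1,
    0, 1, 0, 1, 0, 1, 0, 1, 0, 1, 0, 4, 0, 4, 0, 1, 0, 1, 0, 4,
    0, 4, 0, 4, 0, 1, 0, 4],
   [5, 3, 4, 3, 7, 6, 1, 0, 1, 2, 4, 2, 4, 2, 1, 2, 7, 8, 9, 10,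
    11, 13, 14, 15, 16, 3, 4, 3, 4, 3, 1, 3, 1, 3, 4, 3, 1, 3, 1, 3,
    4, 3, 4, 3, 4, 3, 1, 0, 1, 0, 1, 0, 1, 0, 1, 0, 1, 0, 4, 0,
    4, 0, 4, 0, 4, 0, 4, 0, 1, 0, 4, 0, 1, 0, 1, 0, 1, 0, 1, 0],
   [],
   [1, 5, 1, 2, 9, 1, 9, 2, 0, 1, 2, 1, 2, 6, 8, 10, 11, 12, 15, 16,
    1, 3, 4, 3, 4, 3, 1, 3, 1, 3, 4, 3, 4, 3, 4, 3, 4, 3, 1, 3,
    4, 3, 4, 0, 4, 0, 4, 0, 4, 0, 4, 0, 4, 0, 4, 0, 1, 0, 1, 0,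
    4, 0, 4, 0, 4, 0, 4, 0, 1, 0, 1, 0, 1, 0, 4],
   [5, 3, 4, 5, 7, 16, 2, 9, 4, 2, 13, 6, 2, 1, 2, 6, 7, 8, 9, 11,
    12, 15, 3, 4, 3, 1, 3, 1, 3, 1, 3, 1, 3, 1, 3, 4, 0, 1, 0, 4,
    0, 4, 0, 4, 0, 4, 0, 1, 0, 1, 0, 1, 0, 4, 0, 4, 0, 4, 0, 4,
    0, 4, 0, 1, 0, 1, 0, 4],
   [],
   [5, 4, 7, 5, 4, 11, 16, 13, 2, 4, 16, 2, 6, 0, 4, 2, 8, 9, 11, 12,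
    14, 4, 3, 1, 3, 1, 3, 1, 3, 1, 3, 4, 3, 4, 3, 1, 3, 4, 3, 1,
    3, 4, 3, 4, 3, 4, 0, 1, 0, 1, 0, 4, 0, 4, 0, 4, 0, 4, 0, 4,
    0, 1, 0, 4, 0, 1, 0, 4, 0, 4, 0, 4, 0, 1, 0, 4, 0, 4],
   [5, 1, 11, 15, 5, 16, 1, 2, 13, 0, 4, 2, 4, 2, 1, 2, 6, 9, 10, 12,
    14, 15, 16, 3, 1, 3, 4, 3, 4, 3, 4, 3, 4, 3, 1, 3, 1, 3, 1, 3,
    1, 3, 1, 3, 1, 0, 4, 0, 1, 0, 4, 0, 1, 0, 4, 0, 4, 0, 4, 0,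
    4, 0, 4, 0, 4, 0, 1, 0, 4, 0, 1, 0, 4, 0, 1, 0, 4],
   [5, 3, 4, 5, 13, 2, 9, 2, 13, 1, 16, 2, 0, 1, 2, 8, 12, 13, 15, 1,
    3, 4, 3, 4, 3, 1, 3, 1, 3, 1, 3, 1, 3, 1, 3, 1, 3, 4, 3, 4,
    3, 4, 0, 4, 0, 1, 0, 4, 0, 1, 0, 1, 0, 1, 0, 4, 0, 4, 0, 1,
    0, 4, 0, 4, 0, 1, 0, 1, 0, 1, 0, 4, 0, 1],
   [11, 5, 1, 15, 6, 2, 0, 4, 16, 13, 2, 9, 4, 2, 7, 8, 10, 16, 1, 3,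
    4, 3, 4, 3, 4, 3, 1, 3, 1, 3, 1, 3, 1, 3, 1, 3, 1, 3, 1, 0,
    1, 0, 1, 0, 1, 0, 4, 0, 1, 0, 4, 0, 1, 0, 1, 0, 4, 0, 4, 0,
    4, 0, 4, 0, 1, 0, 1, 0, 4, 0, 4],
   [],
   [15, 5, 7, 5, 1, 2, 16, 0, 4, 2, 16, 13, 1, 2, 1, 2, 7, 9, 11, 14,
    16, 1, 3, 4, 3, 1, 3, 4, 3, 4, 3, 4, 0, 4, 0, 4, 0, 4, 0, 4,
    0, 4, 0, 1, 0, 1, 0, 1, 0, 1, 0, 1, 0, 4, 0, 1, 0, 1, 0, 4,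
    0, 4, 0, 1],
   [],
   [7, 3, 1, 5, 1, 0, 9, 6, 2, 1, 16, 2, 1, 2, 8, 1, 3, 4, 3, 1,
    3, 4, 3, 4, 3, 4, 3, 4, 3, 4, 3, 4, 3, 1, 3, 4, 0, 4, 0, 4,
    0, 4, 0, 1, 0, 4, 0, 1, 0, 1, 0, 1, 0, 1, 0, 4, 0, 4, 0, 4,
    0, 4, 0, 4, 0, 1, 0, 1],
   [],
   [1, 11, 15, 5, 1, 2, 16, 9, 2, 13, 9, 6, 1, 2, 1, 2, 10, 11, 13, 1,
    3, 4, 3, 4, 3, 4, 3, 4, 3, 1, 3, 4, 3, 1, 3, 1, 3, 1, 3, 1,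
    0, 1, 0, 4, 0, 4, 0, 4, 0, 4, 0, 4, 0, 1, 0, 1, 0, 1, 0, 4,
    0, 4, 0, 1, 0, 4, 0, 1, 0, 4, 0, 4],
   [15, 4, 15, 5, 15, 4, 0, 1, 2, 4, 2, 16, 1, 2, 1, 2, 6, 7, 9, 11,
    12, 15, 16, 3, 1, 3, 1, 3, 1, 3, 1, 3, 4, 3, 1, 3, 4, 3, 1, 0,
    4, 0, 4, 0, 4, 0, 4, 0, 4, 0, 4, 0, 4, 0, 1, 0, 1, 0, 1, 0,
    1, 0, 4, 0, 1, 0, 1, 0, 1, 0, 4],
   [5, 1, 5, 3, 4, 11, 2, 9, 2, 13, 2, 13, 0, 1, 2, 1, 2, 9, 12, 13,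
    14, 15, 16, 1, 3, 4, 3, 1, 3, 1, 3, 4, 3, 4, 3, 1, 3, 4, 0, 4,
    0, 4, 0, 4, 0, 4, 0, 1, 0, 1, 0, 1, 0, 4, 0, 4, 0, 1, 0, 1,
    0, 1, 0, 4, 0, 1, 0, 1, 0, 1, 0],
   [],
   [7, 3, 15, 4, 2, 16, 9, 4, 2, 9, 4, 2, 4, 2, 6, 7, 9, 14, 3, 4,
    3, 4, 3, 1, 3, 4, 3, 1, 3, 4, 3, 4, 3, 4, 3, 1, 3, 4, 0, 4,
    0, 1, 0, 4, 0, 1, 0, 4, 0, 4, 0, 4, 0, 1, 0, 1, 0, 1, 0, 4,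
    0, 1, 0, 1, 0, 1, 0, 1, 0, 1],
   [15, 1, 15, 5, 1, 9, 1, 2, 16, 1, 0, 13, 2, 1, 2, 9, 10, 15, 1, 3,
    1, 3, 1, 3, 1, 3, 4, 3, 1, 3, 4, 3, 4, 3, 4, 3, 4, 3, 4, 0,
    4, 0, 1, 0, 4, 0, 1, 0, 1, 0, 1, 0, 1, 0, 1, 0, 4, 0, 4, 0,
    1, 0, 4, 0, 4, 0, 4, 0, 1, 0, 4],
   [11, 5, 4, 5, 7, 1, 0, 13, 6, 1, 2, 4, 0, 4, 2, 8, 10, 11, 14, 15,
    16, 3, 1, 3, 4, 3, 4, 3, 4, 3, 4, 3, 4, 3, 1, 3, 4, 3, 1, 3,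
    4, 0, 4, 0, 1, 0, 1, 0, 1, 0, 1, 0, 4, 0, 4, 0, 4, 0, 1, 0,
    4, 0, 1, 0, 4, 0, 1, 0, 4, 0, 1, 0, 4, 0],
   []]

/-- The three generators of GL2(3). -/
def glGens : List (Nat × Nat × Nat × Nat) :=
  [(0, 1, 1, 0), (0, 1, 2, 1), (1, 2, 2, 2)]

/-- A tree on the nonzero exponent pairs: parent and generator. -/
def orbitTree : List (Nat × Nat) :=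
  [(0, 0), (11, 0), (8, 3), (1, 3), (5, 3), (9, 3), (2, 3), (6, 3),
    (10, 3), (3, 3), (48, 2), (0, 0), (48, 3), (52, 3), (45, 3), (49, 3),
    (81, 1), (28, 1), (50, 3), (54, 3), (47, 3), (51, 3), (88, 3), (92, 3),
    (96, 3), (89, 3), (93, 3), (115, 2), (11, 1), (94, 3), (98, 3), (91, 3),
    (95, 3), (11, 3), (15, 3), (19, 3), (12, 3), (16, 3), (20, 3), (13, 3),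
    (17, 3), (21, 3), (14, 3), (18, 3), (55, 3), (59, 3), (63, 3), (56, 3),
    (1, 2), (64, 3), (57, 3), (81, 0), (65, 3), (58, 3), (62, 3), (99, 3),
    (16, 0), (16, 2), (100, 3), (104, 3), (108, 3), (101, 3), (105, 3), (109, 3),
    (65, 1), (1, 1), (22, 3), (17, 0), (28, 0), (23, 3), (27, 3), (31, 3),
    (24, 3), (28, 3), (32, 3), (48, 1), (68, 2), (66, 3), (70, 3), (74, 3),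
    (67, 3), (11, 2), (75, 3), (68, 3), (10, 2), (76, 3), (69, 3), (73, 3),
    (110, 3), (114, 3), (118, 3), (111, 3), (115, 3), (119, 3), (112, 3), (116, 3),
    (120, 3), (113, 3), (117, 3), (33, 3), (37, 3), (41, 3), (34, 3), (38, 3),
    (65, 2), (17, 2), (39, 3), (43, 3), (36, 3), (40, 3), (81, 2), (81, 3),
    (85, 3), (78, 3), (82, 3), (65, 0), (51, 1), (83, 3), (87, 3), (80, 3),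
    (84, 3)]

/-- The height in the tree. -/
def orbitRank : List Nat :=
  [0, 1, 69, 7, 71, 47, 92, 111, 45, 23, 21, 0, 22, 42, 88, 64, 12, 9, 81, 97,
    80, 31, 59, 63, 110, 109, 113, 38, 2, 112, 95, 60, 78, 4, 87, 114, 46, 34, 101, 66,
    28, 55, 108, 102, 61, 65, 98, 56, 6, 40, 57, 11, 19, 103, 75, 37, 32, 33, 82, 41,
    93, 100, 51, 76, 17, 5, 83, 26, 8, 86, 62, 84, 119, 10, 99, 20, 24, 104, 85, 115,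
    50, 3, 43, 25, 44, 48, 106, 29, 35, 90, 77, 36, 39, 96, 94, 54, 91, 118, 73, 15,
    58, 79, 107, 116, 18, 27, 89, 117, 70, 52, 13, 14, 72, 105, 67, 16, 30, 49, 53, 74,
    68]

end Cfsg.Lib.J4Eleven
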