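import Cfsg.Agent.Lib.JankoFour.SylowThree

/-!
# The nonabelian group of order `11 ^ 3` and exponent 11 from three relations
-/

set_option autoImplicit false
set_option linter.style.haveILetI false

namespace Cfsg.Lib.J4Eleven

/-- Three elements of order dividing 11, the third central, with `B A = Z ^ 2 A B`. -/
structure Heis (Γ : Type*) [Group Γ] where
  A : Γ
  B : Γ
  Z : Γ
  hA : A ^ 11 = 1
  hB : B ^ 11 = 1
  hZ : Z ^ 11 = 1
  hZ1 : Z ≠ 1
  hZA : Commute Z A
  hZB : Commute Z B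
  hBA : B * A = Z ^ 2 * A * B

/-- Exponents. -/
abbrev Z11 : Type := ZMod 11

instance fact_prime_11 : Fact (Nat.Prime 11) := ⟨by norm_num⟩

namespace Heis

variable {Γ : Type*} [Group Γ] (S : Heis Γ)

theorem pow_val {g : Γ} (hg : g ^ 11 = 1) (n : ℕ) : g ^ ((n : Z11)).val = g ^ n := by
  rw [ZMod.val_natCast, ← pow_eq_pow_mod n hg]

theorem pow_val_add {g : Γ} (hg : g ^ 11 = 1) (a b : Z11) :
    g ^ (a + b).val = g ^ a.val * g ^ b.val := by
  rw [ZMod.val_add, ← pow_eq_pow_mod _ hg, pow_add]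

/-- The element with given exponents. -/
def el (i j k : Z11) : Γ := S.A ^ i.val * S.B ^ j.val * S.Z ^ k.val

theorem el_zero : S.el 0 0 0 = 1 := by simp [el]

theorem el_A : S.el 1 0 0 = S.A := by simp [el, show (1 : Z11).val = 1 from rfl]

theorem el_B : S.el 0 1 0 = S.B := by simp [el, show (1 : Z11).val = 1 from rfl]

theorem el_Z (k : Z11) : S.el 0 0 k = S.Z ^ k.val := by simp [el]

theorem comm_pow (j i : ℕ) : S.B ^ j * S.A ^ i = S.Z ^ (2 * (j * i)) * S.A ^ i * S.B ^ j := by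
  have h1 : ∀ i : ℕ, S.B * S.A ^ i = S.Z ^ (2 * i) * S.A ^ i * S.B := by
    intro i
    induction i with
    | zero => simp
    | succ i ih =>
      rw [pow_succ, ← mul_assoc, ih]
      simp only [mul_assoc]
      rw [S.hBA]
      simp only [← mul_assoc]
      rw [mul_assoc (S.Z ^ (2 * i)) (S.A ^ i) (S.Z ^ 2), ← ((S.hZA.pow_pow 2 i)).eq,
        ← mul_assoc, ← pow_add, mul_assoc _ (S.A ^ i) S.A, ← pow_succ,
        show 2 * i + 2 = 2 * (i + 1) by ring]
      simp only [pow_succ, mul_assoc]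
  induction j with
  | zero => simp
  | succ j ih =>
    rw [pow_succ', mul_assoc, ih, ← mul_assoc, ← mul_assoc,
      (S.hZB.pow_left (2 * (j * i))).symm.eq, mul_assoc (S.Z ^ (2 * (j * i))) S.B, h1]
    simp only [← mul_assoc, ← pow_add]
    rw [show 2 * j * i + 2 * i = 2 * (j + 1) * i by ring, mul_assoc _ S.B, ← pow_succ']

theorem el_mul (i j k i' j' k' : Z11) :
    S.el i j k * S.el i' j' k' = S.el (i + i') (j + j') (k + k' + 2 * j * i') := by
  have hz : ∀ m : ℕ, ∀ x : Γ, (Commute S.Z x) → S.Z ^ m * x = x * S.Z ^ m :=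
    fun m x h => (h.pow_left m).eq
  unfold el
  rw [pow_val_add S.hA, pow_val_add S.hB, pow_val_add S.hZ, pow_val_add S.hZ,
    show (2 * j * i' : Z11) = ((2 * (j.val * i'.val) : ℕ) : Z11) by
      push_cast; rw [ZMod.natCast_zmod_val, ZMod.natCast_zmod_val]; ring,
    pow_val S.hZ]
  set w := S.Z ^ (2 * (j.val * i'.val)) with hw
  have hwA : Commute w (S.A ^ i.val) := S.hZA.pow_pow _ _
  have hwA' : Commute w (S.A ^ i'.val) := S.hZA.pow_pow _ _
  have hwB : Commute w (S.B ^ j.val) := S.hZB.pow_pow _ _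
  have hwB' : Commute w (S.B ^ j'.val) := S.hZB.pow_pow _ _
  have hkA : Commute (S.Z ^ k.val) (S.A ^ i'.val) := S.hZA.pow_pow _ _
  have hkB : Commute (S.Z ^ k.val) (S.B ^ j'.val) := S.hZB.pow_pow _ _
  calc S.A ^ i.val * S.B ^ j.val * S.Z ^ k.val * (S.A ^ i'.val * S.B ^ j'.val * S.Z ^ k'.val)
      = S.A ^ i.val * S.B ^ j.val * (S.Z ^ k.val * (S.A ^ i'.val * S.B ^ j'.val)) * S.Z ^ k'.val := by
        simp only [mul_assoc]
    _ = S.A ^ i.val * (S.B ^ j.val * S.A ^ i'.val) * S.B ^ j'.val * (S.Z ^ k.val * S.Z ^ k'.val) := by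
        rw [(hkA.mul_right hkB).eq]; simp only [mul_assoc]
    _ = S.A ^ i.val * (w * (S.A ^ i'.val * S.B ^ j.val)) * S.B ^ j'.val *
          (S.Z ^ k.val * S.Z ^ k'.val) := by
        rw [S.comm_pow]; simp only [mul_assoc, hw]
    _ = S.A ^ i.val * (S.A ^ i'.val * S.B ^ j.val * (w * S.B ^ j'.val)) *
          (S.Z ^ k.val * S.Z ^ k'.val) := by
        rw [(hwA'.mul_right hwB).eq]; simp only [mul_assoc]
    _ = _ := by
        rw [hwB'.eq]
        have hwk : Commute w (S.Z ^ k.val * S.Z ^ k'.val) :=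
          ((Commute.refl S.Z).pow_pow _ _).mul_right ((Commute.refl S.Z).pow_pow _ _)
        simp only [mul_assoc]
        rw [hwk.eq]
        simp only [mul_assoc]

theorem el_pow (i j k : Z11) (n : ℕ) : ∃ m : Z11, S.el i j k ^ n = S.el (n * i) (n * j) m := by
  induction n with
  | zero => exact ⟨0, by simp [el_zero]⟩
  | succ n ih =>
    obtain ⟨m, hm⟩ := ih
    exact ⟨m + k + 2 * (n * j) * i, by rw [pow_succ, hm, el_mul]; congr 1 <;> push_cast <;> ring⟩

theorem el_pow_eq (i j k : Z11) (n : ℕ) :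
    S.el i j k ^ n = S.el (n * i) (n * j) (n * k + (n * (n - 1) : Z11) * (i * j)) := by
  induction n with
  | zero => simp [el_zero]
  | succ n ih =>
    rw [pow_succ, ih, el_mul]
    congr 1 <;> push_cast <;> ring

theorem el_pow_eleven (i j k : Z11) : S.el i j k ^ 11 = 1 := by
  rw [el_pow_eq, show ((11 : ℕ) : Z11) = 0 from rfl]
  simp [el_zero]

theorem el_inv (i j k : Z11) : (S.el i j k)⁻¹ = S.el (-i) (-j) (-k + 2 * j * i) := by
  refine inv_eq_of_mul_eq_one_right ?_
  rw [el_mul, ← S.el_zero]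
  congr 1 <;> ring

/-- The group. -/
def sub : Subgroup Γ where
  carrier := {g | ∃ i j k, S.el i j k = g}
  one_mem' := ⟨0, 0, 0, S.el_zero⟩
  mul_mem' := by
    rintro _ _ ⟨i, j, k, rfl⟩ ⟨i', j', k', rfl⟩
    exact ⟨_, _, _, (S.el_mul ..).symm⟩
  inv_mem' := by
    rintro _ ⟨i, j, k, rfl⟩
    exact ⟨_, _, _, (S.el_inv ..).symm⟩

theorem el_mem (i j k : Z11) : S.el i j k ∈ S.sub := ⟨i, j, k, rfl⟩

theorem Z_pow_eq_one {k : Z11} (h : S.Z ^ k.val = 1) : k = 0 := by
  have ho : orderOf S.Z = 11 := orderOf_eq_prime S.hZ S.hZ1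
  have h' := orderOf_dvd_of_pow_eq_one h
  rw [ho] at h'
  rw [← ZMod.natCast_zmod_val k, Nat.eq_zero_of_dvd_of_lt h' k.val_lt, Nat.cast_zero]

theorem el_eq_one {i j k : Z11} (h : S.el i j k = 1) : i = 0 ∧ j = 0 ∧ k = 0 := by
  have two : (2 : Z11) ≠ 0 := by decide
  have h1 : S.el i j k * S.el 0 1 0 = S.el 0 1 0 * S.el i j k := by rw [h, one_mul, mul_one]
  rw [el_mul, el_mul] at h1
  have hcanc : ∀ {a b c c' : Z11}, S.el a b c = S.el a b c' → c = c' := by
    intro a b c c' e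
    unfold el at e
    have e' := mul_left_cancel e
    have e'' : S.Z ^ (c - c').val = 1 := by
      have : S.Z ^ (c - c').val * S.Z ^ c'.val = S.Z ^ c'.val := by
        rw [← pow_val_add S.hZ, sub_add_cancel, e']
      exact mul_eq_right.1 this
    exact sub_eq_zero.1 (S.Z_pow_eq_one e'')
  have hi : i = 0 := by
    have e := h1
    rw [show j + 1 = 1 + j by ring, show i + 0 = 0 + i by ring] at e
    have := hcanc e
    have : 2 * i = 0 := by linear_combination -this
    exact (mul_eq_zero.1 this).resolve_left two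
  subst hi
  have h2 : S.el 0 j k * S.el 1 0 0 = S.el 1 0 0 * S.el 0 j k := by rw [h, one_mul, mul_one]
  rw [el_mul, el_mul] at h2
  have hj : j = 0 := by
    have e := h2
    rw [show j + 0 = 0 + j by ring, show (0 : Z11) + 1 = 1 + 0 by ring] at e
    have := hcanc e
    have : 2 * j = 0 := by linear_combination this
    exact (mul_eq_zero.1 this).resolve_left two
  subst hj
  refine ⟨rfl, rfl, S.Z_pow_eq_one ?_⟩
  rwa [el_Z] at h

theorem el_inj {i j k i' j' k' : Z11} (h : S.el i j k = S.el i' j' k') :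
    i = i' ∧ j = j' ∧ k = k' := by
  have e : S.el i j k * (S.el i' j' k')⁻¹ = 1 := by rw [h, mul_inv_cancel]
  rw [el_inv, el_mul] at e
  obtain ⟨h1, h2, h3⟩ := S.el_eq_one e
  have hi : i = i' := by linear_combination h1
  have hj : j = j' := by linear_combination h2
  subst hi; subst hj
  exact ⟨rfl, rfl, by linear_combination h3⟩

theorem card_sub : Nat.card ↥S.sub = 11 ^ 3 := by
  let f : Z11 × Z11 × Z11 → ↥S.sub := fun q => ⟨S.el q.1 q.2.1 q.2.2, S.el_mem ..⟩
  have hf : Function.Bijective f := by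
    refine ⟨fun a b e => ?_, fun x => ?_⟩
    · obtain ⟨h1, h2, h3⟩ := S.el_inj (congrArg Subtype.val e)
      exact Prod.ext h1 (Prod.ext h2 h3)
    · obtain ⟨i, j, k, e⟩ := x.2
      exact ⟨(i, j, k), Subtype.ext e⟩
  rw [← Nat.card_congr (Equiv.ofBijective f hf), Nat.card_prod, Nat.card_prod, Nat.card_zmod]
  norm_num

theorem not_comm : ¬ IsMulCommutative ↥S.sub := by
  intro h
  have e : S.el 0 1 0 * S.el 1 0 0 = S.el 1 0 0 * S.el 0 1 0 :=
    congrArg Subtype.val (mul_comm' (⟨_, S.el_mem 0 1 0⟩ : ↥S.sub) ⟨_, S.el_mem 1 0 0⟩)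
  rw [el_mul, el_mul] at e
  have := (S.el_inj e).2.2
  simp at this
  exact absurd this (by decide)

/-- The group is extraspecial of exponent 11. -/
theorem structure_sub [Finite Γ] : Cfsg.IsExtraspecial 11 ↥S.sub ∧ Monoid.exponent ↥S.sub = 11 := by
  refine ⟨Cfsg.Lib.JankoFour.isExtraspecial_of_cube S.card_sub S.not_comm, ?_⟩
  have hd : Monoid.exponent ↥S.sub ∣ 11 := Monoid.exponent_dvd_of_forall_pow_eq_one fun x => by
    obtain ⟨i, j, k, e⟩ := x.2
    exact Subtype.ext (by rw [SubmonoidClass.coe_pow, ← e, el_pow_eleven]; rfl)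
  rcases (Nat.dvd_prime (by norm_num)).1 hd with e | e
  · exfalso
    haveI := Monoid.exp_eq_one_iff.1 e
    have := S.card_sub
    rw [Nat.card_of_subsingleton (1 : ↥S.sub)] at this
    norm_num at this
  · exact e

/-- The class in the quotient by the centre. -/
noncomputable def chi (g : Γ) : Z11 × Z11 :=
  open scoped Classical in
  if h : g ∈ S.sub then (h.choose, h.choose_spec.choose) else (0, 0)

theorem chi_el (i j k : Z11) : S.chi (S.el i j k) = (i, j) := by
  have h : S.el i j k ∈ S.sub := S.el_mem ..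
  rw [chi, dif_pos h]
  obtain ⟨h1, h2, -⟩ := S.el_inj h.choose_spec.choose_spec.choose_spec
  exact Prod.ext h1 h2

theorem chi_mul {g g' : Γ} (hg : g ∈ S.sub) (hg' : g' ∈ S.sub) :
    S.chi (g * g') = S.chi g + S.chi g' := by
  obtain ⟨i, j, k, rfl⟩ := hg
  obtain ⟨i', j', k', rfl⟩ := hg'
  rw [el_mul, chi_el, chi_el, chi_el]
  rfl

theorem chi_pow {g : Γ} (hg : g ∈ S.sub) (n : ℕ) : S.chi (g ^ n) = n • S.chi g := by
  induction n with
  | zero => rw [pow_zero, zero_smul, ← S.el_zero, chi_el]; rfl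
  | succ n ih => rw [pow_succ, S.chi_mul (pow_mem hg n) hg, ih, succ_nsmul]

end Heis

end Cfsg.Lib.J4Eleven
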