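import Cfsg.Agent.Lib.J4Eleven.Fix
import Cfsg.Agent.Lib.J4Eleven.DataFix
import Cfsg.Agent.Lib.J4Eleven.DataNorm

/-!
# Kernel checks on the normalizer of a Sylow 11-subgroup of the model
-/

set_option autoImplicit false
set_option maxRecDepth 20000

namespace Cfsg.Lib.J4Eleven

open Cfsg.Lib.J4Real Cfsg.Lib.CosetEnum Cfsg.Lib.J4Pres

/-- The word of an element of the Sylow subgroup. -/
def uWord (t : ℕ × ℕ × ℕ) : List ℕ :=
  List.replicate t.1 17 ++ (List.replicate t.2.1 19 ++ List.replicate t.2.2 18)

/-- The action of a generator on one of the three letters. -/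
def conjOf (g x : ℕ) : ℕ × ℕ × ℕ := (normConj.getD g []).getD x (0, 0, 0)

/-- The letter of an index. -/
def uLetter (x : ℕ) : ℕ := [17, 19, 18].getD x 0

theorem conj_ok : ((List.range 4).all fun g => (List.range 3).all fun x =>
    sameW (normWords.getD g [] ++ [uLetter x]) (uWord (conjOf g x) ++ normWords.getD g [])) = true := by
  decide +kernel

theorem five_ok : (sameW (List.replicate 5 (normWords.getD 3 [])).flatten [] &&
    moves (normWords.getD 3 [])) = true := by decide +kernel

/-- The product of two coded matrices over the field with three elements. -/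
def mulC (x y : ℕ) : ℕ :=
  let a := x / 27; let b := x / 9 % 3; let c := x / 3 % 3; let d := x % 3
  let p := y / 27; let q := y / 9 % 3; let r := y / 3 % 3; let s := y % 3
  27 * ((a * p + b * r) % 3) + 9 * ((a * q + b * s) % 3) + 3 * ((c * p + d * r) % 3) +
    (c * q + d * s) % 3

/-- The codes of the invertible matrices. -/
def unitCodes : List ℕ :=
  (List.range 81).filter fun x =>
    !(Nat.beq ((x / 27) * (x % 3) % 3) ((x / 9 % 3) * (x / 3 % 3) % 3))

/-- The code of a generator. -/
def genCode (k : ℕ) : ℕ :=
  let t := glGens.getD k (0, 0, 0, 0)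
  27 * t.1 + 9 * t.2.1 + 3 * t.2.2.1 + t.2.2.2

/-- The word of a code. -/
def glW (x : ℕ) : List ℕ := glWords.getD x []

theorem gl_mul_ok : (unitCodes.all fun x => (List.range 3).all fun k =>
    sameW (glW (mulC x (genCode k))) (glW x ++ glW (genCode k))) = true := by decide +kernel

theorem gl_moves_ok : (unitCodes.all fun x => Nat.beq x 28 || moves (glW x)) = true := by
  decide +kernel

theorem gl_low_ok : (unitCodes.all fun x => inRange (glW x)) = true ∧ glW 28 = [] ∧
    (List.range 3).all (fun k => decide (glW (genCode k) = normWords.getD k [])) = true := by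
  decide +kernel

theorem norm_low_ok : ((List.range 4).all fun g => inRange (normWords.getD g [])) = true := by
  decide +kernel

/-- The codes reached from the identity in a number of steps. -/
def reached : ℕ → List ℕ
  | 0 => [28]
  | n + 1 => ((reached n) ++ (reached n).flatMap fun x => (List.range 3).map fun k =>
      mulC x (genCode k)).eraseDups

theorem reached_ok : (unitCodes.all fun x => (reached 9).any fun y => Nat.beq y x) = true := by
  decide +kernel

/-- The image of a coded exponent pair under a generator. -/
def actV (g e : ℕ) : ℕ :=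
  11 * ((e / 11 * (conjOf g 0).1 + e % 11 * (conjOf g 1).1) % 11) +
    (e / 11 * (conjOf g 0).2.1 + e % 11 * (conjOf g 1).2.1) % 11

theorem tree_ok : ((List.range 121).all fun e => Nat.beq e 0 || Nat.beq e 11 ||
    (Nat.blt (orbitTree.getD e (0, 0)).1 121 && Nat.blt (orbitTree.getD e (0, 0)).2 4 &&
      !(Nat.beq (orbitTree.getD e (0, 0)).1 0) &&
      Nat.beq (actV (orbitTree.getD e (0, 0)).2 (orbitTree.getD e (0, 0)).1) e &&
      Nat.blt (orbitRank.getD (orbitTree.getD e (0, 0)).1 0) (orbitRank.getD e 0))) = true := by
  decide +kernel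

theorem check11 : fixCheck word11 fixSet11 fixInv11 = true := by decide +kernel

theorem five_fixed_ok : (nodupN fixFive && Nat.beq fixFive.length 5 &&
    fixFive.all fun v => Nat.blt v (2 ^ 112) && Nat.beq (applyWord rows [17] v) v) = true := by
  decide +kernel

end Cfsg.Lib.J4Eleven
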