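import Cfsg.Agent.Lib.J4Eleven.Heis
import Cfsg.Agent.Lib.J4Eleven.NormChecks

/-!
# The normalizer of a Sylow 11-subgroup in the model
-/

set_option autoImplicit false
set_option maxRecDepth 20000
set_option linter.style.haveILetI false

namespace Cfsg.Lib.J4Eleven

open Cfsg.Lib.J4Real Cfsg.Lib.CosetEnum

theorem jp_eleven (k : ℕ) (h : sameW (List.replicate 11 k) [] = true) : jp k ^ 11 = 1 := by
  have h' := sameW_wp h
  rwa [wp, List.map_replicate, List.prod_replicate, wp_nil] at h'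

theorem u_pow17 : sameW (List.replicate 11 17) [] = true := by decide +kernel

theorem u_pow18 : sameW (List.replicate 11 18) [] = true := by decide +kernel

theorem u_pow19 : sameW (List.replicate 11 19) [] = true := by decide +kernel

theorem u_za : sameW [18, 17] [17, 18] = true := by decide +kernel

theorem u_zb : sameW [18, 19] [19, 18] = true := by decide +kernel

theorem u_ba : sameW [19, 17] [18, 18, 17, 19] = true := by decide +kernel

theorem u_z_moves : moves [18] = true := by decide +kernel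

theorem jp_pair {a b c d : ℕ} (h : sameW [a, b] [c, d] = true) : jp a * jp b = jp c * jp d := by
  have h' := sameW_wp h
  rwa [wp_cons, wp_single, wp_cons, wp_single] at h'

theorem jp_rel : jp 19 * jp 17 = jp 18 ^ 2 * jp 17 * jp 19 := by
  have h := sameW_wp u_ba
  rw [wp_cons, wp_single, wp_cons, wp_cons, wp_cons, wp_single] at h
  rw [h, pow_two, mul_assoc, mul_assoc]

theorem jp18_ne : jp 18 ≠ 1 := fun e => moves_ne u_z_moves (by rw [wp_single, e])

attribute [local irreducible] jp wp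

/-- The three letters generating the Sylow 11-subgroup. -/
noncomputable def uHeis : Heis Gsub where
  A := ⟨jp 17, jp_mem_G (by norm_num)⟩
  B := ⟨jp 19, jp_mem_G (by norm_num)⟩
  Z := ⟨jp 18, jp_mem_G (by norm_num)⟩
  hA := Subtype.ext (by rw [Subgroup.coe_pow, Subgroup.coe_one]; exact jp_eleven 17 u_pow17)
  hZ := Subtype.ext (by rw [Subgroup.coe_pow, Subgroup.coe_one]; exact jp_eleven 18 u_pow18)
  hB := Subtype.ext (by rw [Subgroup.coe_pow, Subgroup.coe_one]; exact jp_eleven 19 u_pow19)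
  hZ1 := fun e => jp18_ne (congrArg Subtype.val e)
  hZA := Subtype.ext (by rw [Subgroup.coe_mul, Subgroup.coe_mul]; exact jp_pair u_za)
  hZB := Subtype.ext (by rw [Subgroup.coe_mul, Subgroup.coe_mul]; exact jp_pair u_zb)
  hBA := Subtype.ext (by
    rw [Subgroup.coe_mul, Subgroup.coe_mul, Subgroup.coe_mul, Subgroup.coe_pow]; exact jp_rel)

/-- The Sylow subgroup. -/
noncomputable def U0 : Subgroup Gsub := uHeis.sub

/-- An element of the Sylow subgroup by natural exponents. -/
noncomputable def uEl (t : ℕ × ℕ × ℕ) : Gsub := uHeis.el t.1 t.2.1 t.2.2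

theorem uEl_coe (t : ℕ × ℕ × ℕ) : (uEl t).1 = wp (uWord t) := by
  have hr : ∀ (k : ℕ) (n : ℕ), wp (List.replicate n k) = jp k ^ n := fun k n => by
    rw [wp, List.map_replicate, List.prod_replicate]
  rw [uWord, wp_append, wp_append, hr, hr, hr]
  unfold uEl Heis.el
  rw [Heis.pow_val uHeis.hA, Heis.pow_val uHeis.hB, Heis.pow_val uHeis.hZ]
  show _ * _ * _ = _ * (_ * _)
  rw [mul_assoc]
  rfl

/-- One of the four normalizing elements. -/
noncomputable def normEl (g : ℕ) : Gsub :=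
  if h : g < 4 then ⟨wp (normWords.getD g []), wp_mem_G (by
    have h' := List.all_eq_true.1 norm_low_ok g (List.mem_range.2 h)
    simpa [inRange, List.all_eq_true, Nat.blt_eq] using h')⟩ else 1

theorem conj_letter {g x : ℕ} (hg : g < 4) (hx : x < 3) :
    normEl g * (if x = 0 then uHeis.A else if x = 1 then uHeis.B else uHeis.Z) * (normEl g)⁻¹ =
      uEl (conjOf g x) := by
  rw [mul_inv_eq_iff_eq_mul]
  refine Subtype.ext ?_
  have h := sameW_wp (List.all_eq_true.1 (List.all_eq_true.1 conj_ok g (List.mem_range.2 hg)) x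
    (List.mem_range.2 hx))
  rw [wp_append, wp_append, ← uEl_coe, wp_single] at h
  simp only [normEl, dif_pos hg, Subgroup.coe_mul]
  refine Eq.trans ?_ h
  interval_cases x <;> rfl

theorem mem_U0 (t : ℕ × ℕ × ℕ) : uEl t ∈ U0 := uHeis.el_mem _ _ _

theorem conj_mem_of_gens {n : Gsub} (hA : n * uHeis.A * n⁻¹ ∈ U0) (hB : n * uHeis.B * n⁻¹ ∈ U0)
    (hZ : n * uHeis.Z * n⁻¹ ∈ U0) : n ∈ Subgroup.normalizer (U0 : Set Gsub) := by
  have hle : U0.map (MulAut.conj n).toMonoidHom ≤ U0 := by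
    rintro _ ⟨u, ⟨i, j, k, rfl⟩, rfl⟩
    simp only [Heis.el, map_mul, map_pow, MulEquiv.coe_toMonoidHom, MulAut.conj_apply]
    exact mul_mem (mul_mem (pow_mem hA _) (pow_mem hB _)) (pow_mem hZ _)
  have heq : U0.map (MulAut.conj n).toMonoidHom = U0 := Subgroup.eq_of_le_of_card_ge hle
    (by rw [Subgroup.card_map_of_injective (MulAut.conj n).injective])
  rw [Subgroup.mem_normalizer_iff]
  intro b
  conv_rhs => rw [← heq]
  simp [Subgroup.mem_map]

theorem normEl_mem {g : ℕ} (hg : g < 4) : normEl g ∈ Subgroup.normalizer (U0 : Set Gsub) := by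
  have h := fun x (hx : x < 3) => conj_letter hg hx
  refine conj_mem_of_gens ?_ ?_ ?_
  · have := h 0 (by norm_num); simp only [if_true] at this; rw [this]; exact mem_U0 _
  · have := h 1 (by norm_num); simp only [one_ne_zero, if_false, if_true] at this
    rw [this]; exact mem_U0 _
  · have := h 2 (by norm_num); simp only [OfNat.ofNat_ne_zero, show (2 : ℕ) ≠ 1 by norm_num,
      if_false] at this
    rw [this]; exact mem_U0 _

/-- The code of a matrix over the field with three elements. -/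
def codeOf (a b c d : ZMod 3) : ℕ := 27 * a.val + 9 * b.val + 3 * c.val + d.val

theorem codeOf_mul : ∀ a b c d p q r s : ZMod 3,
    codeOf (a * p + b * r) (a * q + b * s) (c * p + d * r) (c * q + d * s) =
      mulC (codeOf a b c d) (codeOf p q r s) := by decide +kernel

theorem codeOf_unit : ∀ a b c d : ZMod 3, a * d - b * c ≠ 0 → codeOf a b c d ∈ unitCodes := by
  decide +kernel

theorem codeOf_one : ∀ a b c d : ZMod 3, codeOf a b c d = 28 → a = 1 ∧ b = 0 ∧ c = 0 ∧ d = 1 := by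
  decide +kernel

theorem gl_mul_gen {x k : ℕ} (hx : x ∈ unitCodes) (hk : k < 3) :
    wp (glW (mulC x (genCode k))) = wp (glW x) * wp (glW (genCode k)) := by
  rw [← wp_append]
  exact sameW_wp (List.all_eq_true.1 (List.all_eq_true.1 gl_mul_ok x hx) k (List.mem_range.2 hk))

theorem units_closed : (unitCodes.all fun x => unitCodes.all fun y =>
    unitCodes.any fun z => Nat.beq z (mulC x y)) = true ∧
    ((List.range 3).all fun k => unitCodes.any fun z => Nat.beq z (genCode k)) = true ∧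
    (unitCodes.all fun x => unitCodes.all fun y => unitCodes.all fun z =>
      Nat.beq (mulC (mulC x y) z) (mulC x (mulC y z))) = true ∧
    (unitCodes.any fun z => Nat.beq z 28) = true ∧
    (unitCodes.all fun x => Nat.beq (mulC x 28) x && Nat.beq (mulC 28 x) x) = true := by
  decide +kernel

theorem unit_mul {x y : ℕ} (hx : x ∈ unitCodes) (hy : y ∈ unitCodes) : mulC x y ∈ unitCodes := by
  obtain ⟨z, hz, e⟩ := List.any_eq_true.1 (List.all_eq_true.1 (List.all_eq_true.1 units_closed.1 x hx) y hy)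
  rw [Nat.beq_eq] at e
  exact e ▸ hz

theorem gen_unit {k : ℕ} (hk : k < 3) : genCode k ∈ unitCodes := by
  obtain ⟨z, hz, e⟩ := List.any_eq_true.1 (List.all_eq_true.1 units_closed.2.1 k (List.mem_range.2 hk))
  rw [Nat.beq_eq] at e
  exact e ▸ hz

theorem unit_assoc {x y z : ℕ} (hx : x ∈ unitCodes) (hy : y ∈ unitCodes) (hz : z ∈ unitCodes) :
    mulC (mulC x y) z = mulC x (mulC y z) :=
  Nat.eq_of_beq_eq_true (List.all_eq_true.1
    (List.all_eq_true.1 (List.all_eq_true.1 units_closed.2.2.1 x hx) y hy) z hz)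

/-- A code against which the table is multiplicative on the right, with image in the normalizer. -/
def Good (y : ℕ) : Prop := y ∈ unitCodes ∧
  (∀ x ∈ unitCodes, wp (glW (mulC x y)) = wp (glW x) * wp (glW y)) ∧
    ∃ n ∈ Subgroup.normalizer (U0 : Set Gsub), n.1 = wp (glW y)

theorem good_all {y : ℕ} (hy : y ∈ unitCodes) : Good y := by
  have h1 : glW 28 = [] := gl_low_ok.2.1
  have one : Good 28 := by
    obtain ⟨z, hz, e⟩ := List.any_eq_true.1 units_closed.2.2.2.1
    rw [Nat.beq_eq] at e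
    subst e
    refine ⟨hz, fun x hx => ?_, 1, one_mem _, by rw [h1, wp_nil]; rfl⟩
    have := List.all_eq_true.1 units_closed.2.2.2.2 x hx
    rw [Bool.and_eq_true] at this
    rw [Nat.eq_of_beq_eq_true this.1, h1, wp_nil, mul_one]
  have step : ∀ {u : ℕ}, Good u → ∀ {k : ℕ}, k < 3 → Good (mulC u (genCode k)) := by
    intro u hu k hk
    refine ⟨unit_mul hu.1 (gen_unit hk), fun x hx => ?_, ?_⟩
    · rw [← unit_assoc hx hu.1 (gen_unit hk), gl_mul_gen (unit_mul hx hu.1) hk, hu.2.1 x hx,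
        gl_mul_gen hu.1 hk, mul_assoc]
    · obtain ⟨n, hn, hne⟩ := hu.2.2
      refine ⟨n * normEl k, mul_mem hn (normEl_mem (by omega)), ?_⟩
      have hw : glW (genCode k) = normWords.getD k [] :=
        of_decide_eq_true (List.all_eq_true.1 gl_low_ok.2.2 k (List.mem_range.2 hk))
      rw [gl_mul_gen hu.1 hk, hw, Subgroup.coe_mul, hne, normEl, dif_pos (by omega)]
  have hreach : ∀ n, ∀ u ∈ reached n, Good u := by
    intro n
    induction n with
    | zero => intro u hu; simp only [reached, List.mem_singleton] at hu; exact hu ▸ one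
    | succ n ih =>
      intro u hu
      simp only [reached, List.mem_eraseDups, List.mem_append, List.mem_flatMap, List.mem_map,
        List.mem_range] at hu
      rcases hu with hu | ⟨v, hv, k, hk, rfl⟩
      · exact ih u hu
      · exact step (ih v hv) hk
  obtain ⟨v, hv, e⟩ := List.any_eq_true.1 (List.all_eq_true.1 reached_ok y hy)
  rw [Nat.beq_eq] at e
  exact e ▸ hreach 9 v hv

/-- The code of an element of GL2(3). -/
def glCode (m : GL (Fin 2) (ZMod 3)) : ℕ := codeOf (m.1 0 0) (m.1 0 1) (m.1 1 0) (m.1 1 1)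

theorem glCode_unit (m : GL (Fin 2) (ZMod 3)) : glCode m ∈ unitCodes := by
  refine codeOf_unit _ _ _ _ ?_
  have h : IsUnit m.1.det := (m.1.isUnit_iff_isUnit_det).1 m.isUnit
  rw [Matrix.det_fin_two] at h
  exact h.ne_zero

theorem glCode_mul (m m' : GL (Fin 2) (ZMod 3)) : glCode (m * m') = mulC (glCode m) (glCode m') := by
  simp only [glCode, Units.val_mul, Matrix.mul_apply, Fin.sum_univ_two]
  exact codeOf_mul ..

/-- The embedding of GL2(3) in the normalizer. -/
theorem exists_glHom : ∃ ψ : GL (Fin 2) (ZMod 3) →* Gsub, Function.Injective ψ ∧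
    ψ.range ≤ Subgroup.normalizer (U0 : Set Gsub) := by
  choose f hf1 hf2 using fun m => (good_all (glCode_unit m)).2.2
  have h28 : glCode 1 = 28 := by simp [glCode, codeOf]; decide
  let ψ : GL (Fin 2) (ZMod 3) →* Gsub := MonoidHom.mk' f fun m m' => Subtype.ext (by
    rw [Subgroup.coe_mul, hf2, hf2, hf2, glCode_mul]
    exact (good_all (glCode_unit m')).2.1 _ (glCode_unit m))
  refine ⟨ψ, ?_, by rintro _ ⟨m, rfl⟩; exact hf1 m⟩
  rw [injective_iff_map_eq_one]
  intro m hm
  have hw : wp (glW (glCode m)) = 1 := by rw [← hf2]; exact congrArg Subtype.val hm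
  have h := List.all_eq_true.1 gl_moves_ok _ (glCode_unit m)
  rw [Bool.or_eq_true, Nat.beq_eq] at h
  have hc : glCode m = 28 := h.resolve_right fun hmv => moves_ne hmv hw
  obtain ⟨ha, hb, hc', hd⟩ := codeOf_one _ _ _ _ hc
  refine Units.ext ?_
  ext i j
  fin_cases i <;> fin_cases j <;> simp [ha, hb, hc', hd]

theorem card_U0 : Nat.card ↥U0 = 11 ^ 3 := uHeis.card_sub

theorem five_dvd : 5 ∣ Nat.card ↥(Subgroup.normalizer (U0 : Set Gsub)) := by
  have h := five_ok
  rw [Bool.and_eq_true] at h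
  haveI : Fact (Nat.Prime 5) := ⟨by norm_num⟩
  have ho : orderOf (normEl 3) = 5 := by
    refine orderOf_eq_prime (Subtype.ext ?_) fun e => ?_
    · have h' := sameW_wp h.1
      rw [wp_replicate, wp_nil] at h'
      rw [normEl, dif_pos (by norm_num)]
      exact h'
    · refine moves_ne h.2 ?_
      have e' := congrArg Subtype.val e
      rwa [normEl, dif_pos (by norm_num)] at e'
  rw [← ho]
  exact Subgroup.orderOf_dvd_natCard _ (normEl_mem (by norm_num))

theorem lower_bound : 240 ∣ Nat.card ↥(Subgroup.normalizer (U0 : Set Gsub)) := by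
  obtain ⟨ψ, hψ, hle⟩ := exists_glHom
  have h48 : 48 ∣ Nat.card ↥(Subgroup.normalizer (U0 : Set Gsub)) := by
    have := Subgroup.card_dvd_of_le hle
    rw [← Nat.card_congr (MonoidHom.ofInjective hψ).toEquiv, Matrix.card_GL_field] at this
    simpa [Fin.prod_univ_two, ZMod.card] using this
  exact (show Nat.Coprime 48 5 by norm_num).mul_dvd_of_dvd_of_dvd h48 five_dvd

theorem Z_conj_mem {n : Gsub} (hn : n ∈ Subgroup.normalizer (U0 : Set Gsub)) :
    ∃ k, n * uHeis.Z * n⁻¹ = uHeis.el 0 0 k ∧ k ≠ 0 := by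
  set a := n * uHeis.A * n⁻¹
  set b := n * uHeis.B * n⁻¹
  set z := n * uHeis.Z * n⁻¹
  have hmem : ∀ u ∈ U0, n * u * n⁻¹ ∈ U0 := fun u hu =>
    (Subgroup.mem_normalizer_iff.1 hn u).1 hu
  have ha : a ∈ U0 := hmem _ (by rw [← uHeis.el_A]; exact uHeis.el_mem ..)
  have hb : b ∈ U0 := hmem _ (by rw [← uHeis.el_B]; exact uHeis.el_mem ..)
  have e : b * a = z ^ 2 * a * b := by
    simp only [a, b, z, conj_pow]
    calc n * uHeis.B * n⁻¹ * (n * uHeis.A * n⁻¹) = n * (uHeis.B * uHeis.A) * n⁻¹ := by group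
      _ = n * (uHeis.Z ^ 2 * uHeis.A * uHeis.B) * n⁻¹ := by rw [uHeis.hBA]
      _ = _ := by group
  obtain ⟨i, j, k, hk⟩ : z ∈ U0 := hmem _ ⟨0, 0, 1, by
    rw [uHeis.el_Z, show (1 : Z11).val = 1 from rfl, pow_one]⟩
  have h2 := congrArg uHeis.chi e
  rw [uHeis.chi_mul hb ha, uHeis.chi_mul (mul_mem (pow_mem (hk ▸ uHeis.el_mem ..) 2) ha) hb,
    uHeis.chi_mul (pow_mem (hk ▸ uHeis.el_mem ..) 2) ha,
    uHeis.chi_pow (hk ▸ uHeis.el_mem ..), ← hk, uHeis.chi_el, add_comm (uHeis.chi b)] at h2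
  have h3 : (2 : ℕ) • ((i, j) : Z11 × Z11) = 0 := by
    have := h2
    rw [add_assoc, right_eq_add] at this
    exact this
  simp only [Prod.smul_mk, nsmul_eq_mul, Prod.mk_eq_zero, mul_eq_zero] at h3
  have two : ((2 : ℕ) : Z11) ≠ 0 := by decide
  have hi := h3.1.resolve_left two
  have hj := h3.2.resolve_left two
  subst hi; subst hj
  refine ⟨k, hk.symm, fun e0 => uHeis.hZ1 ((conj_eq_one_iff (a := n)).1 ?_)⟩
  rw [show n * uHeis.Z * n⁻¹ = z from rfl, ← hk, e0, uHeis.el_zero]

/-- The exponents of the images of the two noncentral letters. -/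
noncomputable def act (n : Gsub) : Matrix (Fin 2) (Fin 2) Z11 :=
  !![(uHeis.chi (n * uHeis.A * n⁻¹)).1, (uHeis.chi (n * uHeis.B * n⁻¹)).1;
    (uHeis.chi (n * uHeis.A * n⁻¹)).2, (uHeis.chi (n * uHeis.B * n⁻¹)).2]

theorem chi_conj {n : Gsub} (hn : n ∈ Subgroup.normalizer (U0 : Set Gsub)) (i j k : Z11) :
    uHeis.chi (n * uHeis.el i j k * n⁻¹) =
      (act n 0 0 * i + act n 0 1 * j, act n 1 0 * i + act n 1 1 * j) := by
  obtain ⟨z, hz, -⟩ := Z_conj_mem hn
  have hmem : ∀ u ∈ U0, n * u * n⁻¹ ∈ U0 := fun u hu =>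
    (Subgroup.mem_normalizer_iff.1 hn u).1 hu
  have ha : n * uHeis.A * n⁻¹ ∈ U0 := hmem _ (by rw [← uHeis.el_A]; exact uHeis.el_mem ..)
  have hb : n * uHeis.B * n⁻¹ ∈ U0 := hmem _ (by rw [← uHeis.el_B]; exact uHeis.el_mem ..)
  have e : n * uHeis.el i j k * n⁻¹ =
      (n * uHeis.A * n⁻¹) ^ i.val * (n * uHeis.B * n⁻¹) ^ j.val * (n * uHeis.Z * n⁻¹) ^ k.val := by
    simp only [Heis.el, conj_pow]
    group
  rw [e, hz, uHeis.chi_mul (mul_mem (pow_mem ha _) (pow_mem hb _)) (pow_mem (uHeis.el_mem ..) _),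
    uHeis.chi_mul (pow_mem ha _) (pow_mem hb _), uHeis.chi_pow ha, uHeis.chi_pow hb,
    uHeis.chi_pow (uHeis.el_mem ..), uHeis.chi_el]
  refine Prod.ext ?_ ?_ <;>
    simp [act, nsmul_eq_mul, ZMod.natCast_zmod_val, mul_comm]

theorem act_one : act 1 = 1 := by
  have h1 : uHeis.chi uHeis.A = (1, 0) := by rw [← uHeis.el_A, uHeis.chi_el]
  have h2 : uHeis.chi uHeis.B = (0, 1) := by rw [← uHeis.el_B, uHeis.chi_el]
  ext i j
  fin_cases i <;> fin_cases j <;> simp [act, h1, h2]

theorem act_mul {n m : Gsub} (hn : n ∈ Subgroup.normalizer (U0 : Set Gsub))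
    (hm : m ∈ Subgroup.normalizer (U0 : Set Gsub)) : act (n * m) = act n * act m := by
  have key : ∀ u, u ∈ U0 → uHeis.chi (n * m * u * (n * m)⁻¹) =
      (act n 0 0 * (uHeis.chi (m * u * m⁻¹)).1 + act n 0 1 * (uHeis.chi (m * u * m⁻¹)).2,
       act n 1 0 * (uHeis.chi (m * u * m⁻¹)).1 + act n 1 1 * (uHeis.chi (m * u * m⁻¹)).2) := by
    intro u hu
    obtain ⟨i, j, k, e⟩ : m * u * m⁻¹ ∈ U0 := (Subgroup.mem_normalizer_iff.1 hm u).1 hu
    rw [show n * m * u * (n * m)⁻¹ = n * (m * u * m⁻¹) * n⁻¹ by group, ← e, chi_conj hn,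
      uHeis.chi_el]
  have ka := key uHeis.A (by rw [← uHeis.el_A]; exact uHeis.el_mem ..)
  have kb := key uHeis.B (by rw [← uHeis.el_B]; exact uHeis.el_mem ..)
  ext i j
  fin_cases i <;> fin_cases j <;>
    simp only [Matrix.mul_apply, Fin.sum_univ_two] <;>
    simp [act, Prod.ext_iff] at ka kb ⊢ <;> simp [ka, kb]

/-- The action on the quotient by the centre. -/
noncomputable def actHom : ↥(Subgroup.normalizer (U0 : Set Gsub)) →* GL (Fin 2) Z11 :=
  MonoidHom.toHomUnits
    { toFun := fun n => act n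
      map_one' := act_one
      map_mul' := fun n m => act_mul n.2 m.2 }

theorem cent_of_ker {y : ↥(Subgroup.normalizer (U0 : Set Gsub))} (hy : y ∈ actHom.ker) {r : ℕ}
    (hr : r.Prime) (hr11 : r ≠ 11) (ho : orderOf y = r) :
    U0 ≤ Subgroup.centralizer ({(y : Gsub)} : Set Gsub) := by
  have hact : act (y : Gsub) = 1 := congrArg Units.val hy
  have hn := y.2
  have hmem : ∀ u ∈ U0, (y : Gsub) * u * (y : Gsub)⁻¹ ∈ U0 := fun u hu =>
    (Subgroup.mem_normalizer_iff.1 hn u).1 hu
  have two : (2 : Z11) ≠ 0 := by decide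
  have hcol : ∀ i j : Z11, ∃ k, (y : Gsub) * uHeis.el i j 0 * (y : Gsub)⁻¹ = uHeis.el i j k := by
    intro i j
    obtain ⟨i', j', k', e⟩ := hmem _ (uHeis.el_mem i j 0)
    have h := chi_conj hn i j 0
    rw [← e, uHeis.chi_el, hact] at h
    simp only [Matrix.one_apply_eq, ne_eq, zero_ne_one, one_ne_zero, not_false_eq_true,
      Matrix.one_apply_ne, one_mul, zero_mul, add_zero, zero_add, Prod.mk.injEq] at h
    obtain ⟨rfl, rfl⟩ := h
    exact ⟨k', e.symm⟩
  obtain ⟨a, ha⟩ := hcol 1 0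
  obtain ⟨b, hb⟩ := hcol 0 1
  rw [uHeis.el_A] at ha
  rw [uHeis.el_B] at hb
  have hz : (y : Gsub) * uHeis.el 0 0 2 * (y : Gsub)⁻¹ = uHeis.el 0 0 2 := by
    have e : uHeis.el 0 0 2 = uHeis.el 0 1 0 * uHeis.el 1 0 0 * (uHeis.el 0 1 0)⁻¹ * (uHeis.el 1 0 0)⁻¹ := by
      simp only [uHeis.el_inv, uHeis.el_mul]; congr 1 <;> ring
    rw [e, uHeis.el_A, uHeis.el_B]
    calc (y : Gsub) * (uHeis.B * uHeis.A * uHeis.B⁻¹ * uHeis.A⁻¹) * (y : Gsub)⁻¹
        = ((y : Gsub) * uHeis.B * (y : Gsub)⁻¹) * ((y : Gsub) * uHeis.A * (y : Gsub)⁻¹) *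
          ((y : Gsub) * uHeis.B * (y : Gsub)⁻¹)⁻¹ * ((y : Gsub) * uHeis.A * (y : Gsub)⁻¹)⁻¹ := by group
      _ = _ := by
        rw [ha, hb, ← uHeis.el_A, ← uHeis.el_B]
        simp only [uHeis.el_inv, uHeis.el_mul]
        congr 1 <;> ring
  have hzc : Commute (y : Gsub) uHeis.Z := by
    have h6 : uHeis.el 0 0 2 ^ 6 = uHeis.Z := by
      rw [uHeis.el_pow_eq,
        show ((6 : ℕ) : Z11) * 2 + ((6 : ℕ) : Z11) * (((6 : ℕ) : Z11) - 1) * (0 * 0) = 1 by decide,
        mul_zero, uHeis.el_Z, show (1 : Z11).val = 1 from rfl, pow_one]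
    have hc2 : Commute (y : Gsub) (uHeis.el 0 0 2) := mul_inv_eq_iff_eq_mul.1 hz
    rw [← h6]; exact hc2.pow_right 6
  have hfix : ∀ (u : Gsub) (k : Z11), (y : Gsub) * u * (y : Gsub)⁻¹ = u * uHeis.Z ^ k.val →
      Commute (y : Gsub) u := by
    intro u k e
    have hpow : ∀ m : ℕ, (y : Gsub) ^ m * u * ((y : Gsub) ^ m)⁻¹ = u * uHeis.Z ^ (m * k.val) := by
      intro m
      induction m with
      | zero => simp
      | succ m ih =>
        calc (y : Gsub) ^ (m + 1) * u * ((y : Gsub) ^ (m + 1))⁻¹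
            = (y : Gsub) * ((y : Gsub) ^ m * u * ((y : Gsub) ^ m)⁻¹) * (y : Gsub)⁻¹ := by
              rw [pow_succ']; group
          _ = ((y : Gsub) * u * (y : Gsub)⁻¹) *
                ((y : Gsub) * uHeis.Z ^ (m * k.val) * (y : Gsub)⁻¹) := by rw [ih]; group
          _ = u * uHeis.Z ^ k.val * uHeis.Z ^ (m * k.val) := by
              rw [e, (hzc.pow_right (m * k.val)).eq, mul_inv_cancel_right]
          _ = _ := by rw [mul_assoc, ← pow_add]; ring_nf
    have h := hpow r
    have hyr : (y : Gsub) ^ r = 1 := by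
      rw [← ho, ← Subgroup.coe_pow, pow_orderOf_eq_one, Subgroup.coe_one]
    rw [hyr, one_mul, inv_one, mul_one, left_eq_mul] at h
    have hk : k = 0 := by
      have h0 : uHeis.Z ^ ((r * k.val : ℕ) : Z11).val = 1 := by rw [Heis.pow_val uHeis.hZ, h]
      have := uHeis.Z_pow_eq_one h0
      push_cast at this
      rw [ZMod.natCast_zmod_val] at this
      refine (mul_eq_zero.1 this).resolve_left fun h' => ?_
      rw [ZMod.natCast_eq_zero_iff] at h'
      exact hr11 ((Nat.prime_dvd_prime_iff_eq (by norm_num) hr).1 h').symm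
    rw [hk, ZMod.val_zero, pow_zero, mul_one] at e
    exact mul_inv_eq_iff_eq_mul.1 e
  have hA := hfix uHeis.A a (by rw [ha, ← uHeis.el_Z, ← uHeis.el_A, uHeis.el_mul]; simp)
  have hB := hfix uHeis.B b (by rw [hb, ← uHeis.el_Z, ← uHeis.el_B, uHeis.el_mul]; simp)
  rintro _ ⟨i, j, k, rfl⟩
  rw [Subgroup.mem_centralizer_singleton_iff]
  exact (((hA.pow_right _).mul_right (hB.pow_right _)).mul_right (hzc.pow_right _)).eq.symm

/-- The order of the normalizer, when no centralizer of an element of another prime order has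
order divisible by `11 ^ 3`. -/
theorem card_normalizer (hC : ∀ y : Gsub, (orderOf y).Prime → orderOf y ≠ 11 →
    ¬ 11 ^ 3 ∣ Nat.card ↥(Subgroup.centralizer ({y} : Set Gsub))) :
    Nat.card ↥(Subgroup.normalizer (U0 : Set Gsub)) = 11 ^ 3 * 240 := by
  haveI : Fact (Nat.Prime 11) := fact_prime_11
  have hker : IsPGroup 11 ↥actHom.ker := by
    refine IsPGroup.of_card (n := (Nat.card ↥actHom.ker).primeFactorsList.length)
      (Nat.eq_prime_pow_of_unique_prime_dvd Nat.card_pos.ne' fun {r} hr hd => ?_)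
    by_contra h11
    haveI : Fact r.Prime := ⟨hr⟩
    obtain ⟨y, hy⟩ := exists_prime_orderOf_dvd_card' r hd
    have ho : orderOf (y : ↥(Subgroup.normalizer (U0 : Set Gsub))) = r := by
      rwa [Subgroup.orderOf_coe]
    refine hC ((y : ↥(Subgroup.normalizer (U0 : Set Gsub))) : Gsub) ?_ ?_ ?_
    · rw [Subgroup.orderOf_coe, ho]; exact hr
    · rw [Subgroup.orderOf_coe, ho]; exact h11
    · rw [← card_U0]
      exact Subgroup.card_dvd_of_le (cent_of_ker y.2 hr h11 ho)
  obtain ⟨b, hb⟩ := IsPGroup.iff_card.1 hker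
  set N := Nat.card ↥(Subgroup.normalizer (U0 : Set Gsub))
  have hN : N ∣ 11 ^ b * 13200 := by
    have h2 : Nat.card ↥actHom.range ∣ 13200 := by
      have := Subgroup.card_subgroup_dvd_card actHom.range
      rw [Matrix.card_GL_field] at this
      simpa [Fin.prod_univ_two, ZMod.card] using this
    have e : N = Nat.card ↥actHom.ker * Nat.card ↥actHom.range := by
      rw [← Subgroup.index_ker, Subgroup.card_mul_index]
    rw [e, hb]
    exact mul_dvd_mul_left _ h2
  have h3 : 11 ^ 3 ∣ N := card_U0 ▸ Subgroup.card_dvd_of_le Subgroup.le_normalizer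
  obtain ⟨m, hm⟩ := h3
  have hG : N ∣ 86775571046077562880 := card_Gsub ▸ Subgroup.card_subgroup_dvd_card _
  have hm11 : ¬ 11 ∣ m := by
    intro hd
    have := (mul_dvd_mul_left (11 ^ 3) hd).trans (hm ▸ hG)
    norm_num at this
  have hm1 : m ∣ 1200 := by
    have h' : m ∣ 11 ^ (b + 1) * 1200 := by
      refine (Dvd.intro_left (11 ^ 3) hm.symm).trans (hN.trans ?_)
      rw [pow_succ, mul_assoc]
      norm_num
    exact (Nat.Coprime.pow_right _ (((Nat.prime_iff_prime_int.2 (Int.prime_iff_natAbs_prime.2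
      (by norm_num))).coprime_iff_not_dvd.2 hm11).symm)).dvd_of_dvd_mul_left h'
  have hm2 : m ∣ 86775571046077562880 / 11 ^ 3 := by
    refine Nat.dvd_div_of_mul_dvd ?_
    exact hm ▸ hG
  have hm3 : m ∣ 240 := by
    have := Nat.dvd_gcd hm1 hm2
    norm_num at this
    exact this
  have hlow : 240 ∣ m :=
    (show Nat.Coprime 240 (11 ^ 3) by norm_num).dvd_of_dvd_mul_left (hm ▸ lower_bound)
  rw [hm, Nat.dvd_antisymm hm3 hlow]

/-- An exponent code moves along the tree to the code of the first letter. -/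
theorem orbit_code : ∀ n e : ℕ, e < 121 → e ≠ 0 → orbitRank.getD e 0 = n →
    ∃ g ∈ Subgroup.normalizer (U0 : Set Gsub), ∃ k,
      g * uHeis.A * g⁻¹ = uHeis.el ((e / 11 : ℕ) : Z11) ((e % 11 : ℕ) : Z11) k := by
  intro n
  induction n using Nat.strong_induction_on with
  | _ n ih =>
    intro e he he0 hn
    by_cases h11 : e = 11
    · subst h11
      refine ⟨1, one_mem _, 0, ?_⟩
      simp [uHeis.el_A]
    have h := List.all_eq_true.1 tree_ok e (List.mem_range.2 he)
    simp only [Bool.or_eq_true, Nat.beq_eq, he0, h11, false_or, Bool.and_eq_true, Nat.blt_eq,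
      Bool.not_eq_true'] at h
    set p := (orbitTree.getD e (0, 0)).1
    set g := (orbitTree.getD e (0, 0)).2
    obtain ⟨⟨⟨⟨hp, hg⟩, hp0⟩, hact⟩, hrank⟩ := h
    have hp0' : p ≠ 0 := fun e' => by rw [e'] at hp0; simp at hp0
    obtain ⟨n0, hn0, k, hk⟩ := ih _ (hn ▸ hrank) p hp hp0' rfl
    have hmem : normEl g * uHeis.el ((p / 11 : ℕ) : Z11) ((p % 11 : ℕ) : Z11) k * (normEl g)⁻¹ ∈ U0 :=
      (Subgroup.mem_normalizer_iff.1 (normEl_mem hg) _).1 (uHeis.el_mem ..)
    obtain ⟨i, j, k', hk'⟩ := hmem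
    refine ⟨normEl g * n0, mul_mem (normEl_mem hg) hn0, k', ?_⟩
    have hchi := chi_conj (normEl_mem hg) ((p / 11 : ℕ) : Z11) ((p % 11 : ℕ) : Z11) k
    rw [← hk', uHeis.chi_el] at hchi
    have ha : ∀ x, x < 2 → (uHeis.chi (normEl g * (if x = 0 then uHeis.A else uHeis.B) * (normEl g)⁻¹)) =
        (((conjOf g x).1 : Z11), ((conjOf g x).2.1 : Z11)) := by
      intro x hx
      have := conj_letter hg (show x < 3 by omega)
      interval_cases x <;> simp only [one_ne_zero, if_false, if_true] at this ⊢ <;>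
        rw [this, uEl, uHeis.chi_el]
    have hA := ha 0 (by norm_num)
    have hB := ha 1 (by norm_num)
    simp only [one_ne_zero, if_false, if_true] at hA hB
    have hval : i = ((e / 11 : ℕ) : Z11) ∧ j = ((e % 11 : ℕ) : Z11) := by
      rw [actV] at hact
      have e1 : e / 11 = (p / 11 * (conjOf g 0).1 + p % 11 * (conjOf g 1).1) % 11 := by omega
      have e2 : e % 11 = (p / 11 * (conjOf g 0).2.1 + p % 11 * (conjOf g 1).2.1) % 11 := by omega
      rw [e1, e2, ZMod.natCast_mod, ZMod.natCast_mod]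
      simp only [act, hA, hB, Matrix.of_apply, Matrix.cons_val', Matrix.cons_val_zero,
        Matrix.cons_val_one, Matrix.empty_val', Matrix.cons_val_fin_one, Prod.mk.injEq] at hchi
      push_cast
      exact ⟨by rw [hchi.1]; ring, by rw [hchi.2]; ring⟩
    rw [show normEl g * n0 * uHeis.A * (normEl g * n0)⁻¹ =
      normEl g * (n0 * uHeis.A * n0⁻¹) * (normEl g)⁻¹ by group, hk, ← hk', hval.1, hval.2]

theorem isConj_A {i j k : Z11} (h : i ≠ 0 ∨ j ≠ 0) : IsConj uHeis.A (uHeis.el i j k) := by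
  have he : 11 * i.val + j.val < 121 := by have := i.val_lt; have := j.val_lt; omega
  have he0 : 11 * i.val + j.val ≠ 0 := by
    intro e
    rcases h with h | h <;> apply h <;> rw [← ZMod.val_eq_zero] <;> omega
  obtain ⟨g, -, k', hk⟩ := orbit_code _ _ he he0 rfl
  have d1 : (11 * i.val + j.val) / 11 = i.val := by have := j.val_lt; omega
  have d2 : (11 * i.val + j.val) % 11 = j.val := by have := j.val_lt; omega
  rw [d1, d2, ZMod.natCast_zmod_val, ZMod.natCast_zmod_val] at hk
  refine (isConj_iff.2 ⟨g, hk⟩).trans ?_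
  -- change the central exponent by an inner conjugation
  have two : (2 : Z11) ≠ 0 := by decide
  obtain ⟨s, t, hst⟩ : ∃ s t : Z11, 2 * (t * i - j * s) = k - k' := by
    rcases h with h | h
    · exact ⟨0, (k - k') / 2 / i, by field_simp; ring⟩
    · exact ⟨-((k - k') / 2 / j), 0, by field_simp; ring⟩
  refine isConj_iff.2 ⟨uHeis.el s t 0, ?_⟩
  rw [uHeis.el_inv, uHeis.el_mul, uHeis.el_mul]
  congr 1 <;> first | linear_combination hst | ring

theorem isConj_Z {k : Z11} (hk : k ≠ 0) : IsConj uHeis.Z (uHeis.el 0 0 k) := by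
  have h0 := conj_letter (g := 0) (x := 2) (by norm_num) (by norm_num)
  have h3 := conj_letter (g := 3) (x := 2) (by norm_num) (by norm_num)
  simp only [OfNat.ofNat_ne_zero, show (2 : ℕ) ≠ 1 by norm_num, if_false] at h0 h3
  have e0 : conjOf 0 2 = (0, 0, 10) := by decide +kernel
  have e3 : conjOf 3 2 = (0, 0, 9) := by decide +kernel
  rw [e0] at h0; rw [e3] at h3
  simp only [uEl, Nat.cast_zero, uHeis.el_Z] at h0 h3
  have z0 : ((10 : ℕ) : Z11).val = 10 := rfl
  have z3 : ((9 : ℕ) : Z11).val = 9 := rfl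
  rw [z0] at h0; rw [z3] at h3
  have hpow : ∀ a b : ℕ, IsConj uHeis.Z (uHeis.Z ^ (10 ^ a * 9 ^ b)) := by
    intro a b
    induction a with
    | zero =>
      induction b with
      | zero => simpa using IsConj.refl uHeis.Z
      | succ b ih =>
        refine (isConj_iff.2 ⟨normEl 3, h3⟩).trans ?_
        have h := ih.pow 9
        rw [← pow_mul] at h
        rwa [show 10 ^ 0 * 9 ^ (b + 1) = 10 ^ 0 * 9 ^ b * 9 by ring]
    | succ a ih =>
      refine (isConj_iff.2 ⟨normEl 0, h0⟩).trans ?_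
      have h := ih.pow 10
      rw [← pow_mul] at h
      rwa [show 10 ^ (a + 1) * 9 ^ b = 10 ^ a * 9 ^ b * 10 by ring]
  have hgen : ∀ c : Z11, c ≠ 0 → ∃ a < 2, ∃ b < 5, ((10 ^ a * 9 ^ b : ℕ) : Z11) = c := by
    decide +kernel
  obtain ⟨a, -, b, -, e⟩ := hgen k hk
  rw [uHeis.el_Z, ← e, Heis.pow_val uHeis.hZ]
  exact hpow a b

theorem fixed_A_Z : (fixedSet uHeis.Z.1).ncard = 4 ∧ 5 ≤ (fixedSet uHeis.A.1).ncard := by
  refine ⟨?_, ?_⟩
  · have h := fixCheck_spec check11
    rw [show fixSet11.length = 4 by decide +kernel, show word11 = [18] by decide +kernel,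
      wp_single] at h
    exact h
  · have h := five_fixed_ok
    simp only [Bool.and_eq_true, Nat.beq_eq, List.all_eq_true, Nat.blt_eq] at h
    obtain ⟨⟨hn, hl⟩, hv⟩ := h
    classical
    have hsub : ((fixFive.attach.map fun v => (⟨v.1, (hv v.1 v.2).1⟩ : Vec)).toFinset : Set Vec) ⊆
        fixedSet uHeis.A.1 := by
      intro v hvm
      simp only [List.coe_toFinset, Set.mem_ofPred_eq, List.mem_map, List.mem_attach, true_and] at hvm
      obtain ⟨⟨u, hu⟩, rfl⟩ := hvm
      show jp 17 _ = _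
      exact Subtype.ext ((jp_apply (by norm_num) _).trans (hv u hu).2)
    have hc := Set.ncard_le_ncard hsub (Set.toFinite _)
    rw [Set.ncard_coe_finset, List.toFinset_card_of_nodup ?_, List.length_map, List.length_attach,
      hl] at hc
    · exact hc
    · exact (List.nodup_attach.2 (nodupN_spec hn)).map fun a b e =>
        Subtype.ext (Subtype.mk.inj e)

/-- Two classes of elements of order 11 in the model. -/
theorem two_classes : orderOf uHeis.A = 11 ∧ orderOf uHeis.Z = 11 ∧ ¬ IsConj uHeis.A uHeis.Z ∧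
    ∀ w : Gsub, orderOf w = 11 → IsConj w uHeis.A ∨ IsConj w uHeis.Z := by
  haveI : Fact (Nat.Prime 11) := fact_prime_11
  refine ⟨orderOf_eq_prime uHeis.hA fun e => ?_, orderOf_eq_prime uHeis.hZ uHeis.hZ1, ?_, ?_⟩
  · rw [← uHeis.el_A] at e
    exact one_ne_zero (uHeis.el_eq_one e).1
  · intro h
    obtain ⟨g, hg⟩ := isConj_iff.1 h
    have := congrArg (fun u : Gsub => (fixedSet u.1).ncard) hg
    simp only [Subgroup.coe_mul, Subgroup.coe_inv] at this
    rw [fixedSet_conj, Set.ncard_image_of_injective _ g.1.injective] at this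
    have := fixed_A_Z
    omega
  · intro w hw
    obtain ⟨Q, hQ⟩ := (IsPGroup.of_card (n := 1) (p := 11) (G := ↥(Subgroup.zpowers w))
      (by rw [Nat.card_zpowers, hw, pow_one])).exists_le_sylow
    obtain ⟨P, hP⟩ := (IsPGroup.of_card (n := 3) (p := 11) (G := ↥U0) card_U0).exists_le_sylow
    have hPU : U0 = (P : Subgroup Gsub) := by
      refine Subgroup.eq_of_le_of_card_ge hP ?_
      obtain ⟨n, hn⟩ := IsPGroup.iff_card.1 P.isPGroup'
      rw [hn, card_U0]
      refine Nat.pow_le_pow_right (by norm_num) ?_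
      by_contra hlt
      have := (pow_dvd_pow 11 (Nat.not_le.1 hlt)).trans
        (hn ▸ card_Gsub ▸ Subgroup.card_subgroup_dvd_card (P : Subgroup Gsub))
      norm_num at this
    obtain ⟨g, hg⟩ := MulAction.exists_smul_eq Gsub Q P
    have hmem : g * w * g⁻¹ ∈ U0 := by
      rw [hPU, ← hg]
      exact ⟨w, hQ (Subgroup.mem_zpowers w), rfl⟩
    obtain ⟨i, j, k, e⟩ := hmem
    have hwc : IsConj w (uHeis.el i j k) := isConj_iff.2 ⟨g, e.symm⟩
    by_cases hij : i ≠ 0 ∨ j ≠ 0
    · exact Or.inl (hwc.trans (isConj_A hij).symm)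
    · simp only [not_or, ne_eq, not_not] at hij
      obtain ⟨rfl, rfl⟩ := hij
      refine Or.inr (hwc.trans (isConj_Z fun hk => ?_).symm)
      rw [hk, uHeis.el_zero] at e
      rw [conj_eq_one_iff.1 e.symm, orderOf_one] at hw
      norm_num at hw

end Cfsg.Lib.J4Eleven
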